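import Mathlib.CategoryTheory.Abelian.RightDerived
import Mathlib.CategoryTheory.Abelian.Injective.Resolution
import Mathlib.Algebra.Homology.Augment

/-! Objects of an adapted class are acyclic for the right derived functors. -/

set_option autoImplicit false

universe v v' u u'

open CategoryTheory CategoryTheory.Limits

namespace Groth.Agent.CAlgMisc.AdaptedClass

variable {A : Type u} [Category.{v} A] [Abelian A] [EnoughInjectives A] (O : ObjectProperty A)
  (h2 : ∀ X : A, ∃ (Y : A) (i : X ⟶ Y), O Y ∧ Mono i)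

noncomputable def R (X : A) : A := (h2 X).choose
noncomputable def emb (X : A) : X ⟶ R O h2 X := (h2 X).choose_spec.choose
lemma R_mem (X : A) : O (R O h2 X) := (h2 X).choose_spec.choose_spec.1
instance emb_mono (X : A) : Mono (emb O h2 X) := (h2 X).choose_spec.choose_spec.2

variable {X : A} (I : InjectiveResolution X)

/-- Two consecutive terms of the resolution in the class. -/
structure Stage (n : ℕ) where
  P : A
  Q : A
  d : P ⟶ Q
  φP : I.cocomplex.X n ⟶ P
  φQ : I.cocomplex.X (n + 1) ⟶ Q
  comm : φP ≫ d = I.cocomplex.d n (n + 1) ≫ φQ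

noncomputable def ι₀ : X ⟶ I.cocomplex.X 0 := I.ι.f 0

instance : Mono (ι₀ I) := inferInstanceAs (Mono (I.ι.f 0))

lemma ι₀_comp : ι₀ I ≫ I.cocomplex.d 0 1 = 0 := I.ι_f_zero_comp_complex_d

lemma exact_ι₀ : (ShortComplex.mk _ _ (ι₀_comp I)).Exact := I.exact₀

/-- The first term. -/
noncomputable abbrev aug : X ⟶ R O h2 (I.cocomplex.X 0) :=
  ι₀ I ≫ emb O h2 _

noncomputable def next {P : A} {n : ℕ} (Q : A) (d : P ⟶ Q) (φP : I.cocomplex.X n ⟶ P)
    (φQ : I.cocomplex.X (n + 1) ⟶ Q) (comm : φP ≫ d = I.cocomplex.d n (n + 1) ≫ φQ) :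
    Stage I (n + 1) where
  P := Q
  Q := R O h2 (Injective.under (cokernel d))
  d := cokernel.π d ≫ Injective.ι _ ≫ emb O h2 _
  φP := φQ
  φQ := (I.exact_succ n).descToInjective (φQ ≫ cokernel.π d ≫ Injective.ι _)
    (by dsimp; rw [← reassoc_of% comm, cokernel.condition_assoc, zero_comp, comp_zero]) ≫ emb O h2 _
  comm := by
    have := (I.exact_succ n).comp_descToInjective (φQ ≫ cokernel.π d ≫ Injective.ι _)
      (by dsimp; rw [← reassoc_of% comm, cokernel.condition_assoc, zero_comp, comp_zero])
    dsimp at this ⊢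
    simp [reassoc_of% this]

noncomputable def first : Stage I 0 where
  P := R O h2 (I.cocomplex.X 0)
  Q := R O h2 (Injective.under (cokernel (aug O h2 I)))
  d := cokernel.π (aug O h2 I) ≫ Injective.ι _ ≫ emb O h2 _
  φP := emb O h2 _
  φQ := (exact_ι₀ I).descToInjective (emb O h2 _ ≫ cokernel.π (aug O h2 I) ≫ Injective.ι _)
    (by
      dsimp; rw [← Category.assoc, cokernel.condition_assoc, zero_comp]) ≫ emb O h2 _
  comm := by
    have := (exact_ι₀ I).comp_descToInjective (emb O h2 _ ≫ cokernel.π (aug O h2 I) ≫ Injective.ι _)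
      (by dsimp; rw [← Category.assoc, cokernel.condition_assoc, zero_comp])
    dsimp at this ⊢
    simp [reassoc_of% this]

noncomputable def stage : ∀ n, Stage I n
  | 0 => first O h2 I
  | n + 1 => next O h2 I (stage n).Q (stage n).d (stage n).φP (stage n).φQ (stage n).comm

noncomputable abbrev obj (n : ℕ) : A := (stage O h2 I n).P

noncomputable abbrev dd (n : ℕ) : obj O h2 I n ⟶ obj O h2 I (n + 1) := (stage O h2 I n).d

lemma dd_succ (n : ℕ) : dd O h2 I (n + 1) =
    cokernel.π (dd O h2 I n) ≫ Injective.ι _ ≫ emb O h2 _ := rfl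

/-- The resolution of `X` by objects of the class. -/
noncomputable def res : CochainComplex A ℕ :=
  CochainComplex.of (obj O h2 I) (dd O h2 I) fun n =>
    (cokernel.condition_assoc (dd O h2 I n) _).trans zero_comp

lemma res_d (n : ℕ) : (res O h2 I).d n (n + 1) = dd O h2 I n := CochainComplex.of_d ..

lemma mem_res (n : ℕ) : O ((res O h2 I).X n) := by
  cases n with
  | zero => exact R_mem O h2 _
  | succ n => cases n <;> exact R_mem O h2 _

lemma exact_coker {P Q T : A} (d : P ⟶ Q) (m : cokernel d ⟶ T) [Mono m]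
    (w : d ≫ cokernel.π d ≫ m = 0) : (ShortComplex.mk d (cokernel.π d ≫ m) w).Exact := by
  refine (ShortComplex.exact_iff_of_epi_of_isIso_of_mono
    ({ τ₁ := 𝟙 P, τ₂ := 𝟙 Q, τ₃ := m } :
      ShortComplex.mk d (cokernel.π d) (cokernel.condition d) ⟶
        ShortComplex.mk d (cokernel.π d ≫ m) w)).mp ?_
  exact ShortComplex.exact_cokernel d

instance : Mono (aug O h2 I) := inferInstanceAs (Mono (ι₀ I ≫ emb O h2 _))

lemma exact_congr {P Q T : A} {f f' : P ⟶ Q} {g g' : Q ⟶ T} (hf : f = f') (hg : g = g') {w : f ≫ g = 0}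
    (w' : f' ≫ g' = 0) (h : (ShortComplex.mk f g w).Exact) : (ShortComplex.mk f' g' w').Exact := by
  subst hf hg; exact h

lemma aug_comp : aug O h2 I ≫ (res O h2 I).d 0 1 = 0 := by
  rw [res_d]
  show aug O h2 I ≫ cokernel.π (aug O h2 I) ≫ _ = 0
  rw [cokernel.condition_assoc, zero_comp]

lemma exact_zero : (ShortComplex.mk _ _ (aug_comp O h2 I)).Exact := by
  have h := exact_coker (aug O h2 I) (Injective.ι _ ≫ emb O h2 _)
    (by rw [cokernel.condition_assoc, zero_comp])
  exact exact_congr rfl (res_d O h2 I 0).symm _ h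

lemma exact_succ (n : ℕ) : (ShortComplex.mk _ _ ((res O h2 I).d_comp_d n (n + 1) (n + 2))).Exact := by
  have h := exact_coker (dd O h2 I n) (Injective.ι _ ≫ emb O h2 _)
    (by rw [cokernel.condition_assoc, zero_comp])
  exact exact_congr (res_d O h2 I n).symm (res_d O h2 I (n + 1)).symm _ h

/-- The comparison map from the injective resolution. -/
noncomputable def toRes : I.cocomplex ⟶ res O h2 I where
  f n := (stage O h2 I n).φP
  comm' := by
    rintro i j (rfl : i + 1 = j)
    rw [res_d]
    exact (stage O h2 I i).comm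

/-- The comparison map to the injective resolution. -/
noncomputable def fromRes : res O h2 I ⟶ I.cocomplex :=
  let f0 : (res O h2 I).X 0 ⟶ I.cocomplex.X 0 := (Injective.factorThru (ι₀ I) (aug O h2 I) : R O h2 (I.cocomplex.X 0) ⟶ I.cocomplex.X 0)
  let f1 : (res O h2 I).X 1 ⟶ I.cocomplex.X 1 :=
    (exact_zero O h2 I).descToInjective (f0 ≫ I.cocomplex.d 0 1) (by
      dsimp only [f0]
      erw [← Category.assoc, Injective.comp_factorThru]
      exact ι₀_comp I)
  CochainComplex.mkHom _ _ f0 f1 ((exact_zero O h2 I).comp_descToInjective _ _).symm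
    fun n p => ⟨(exact_succ O h2 I n).descToInjective (p.2.1 ≫ I.cocomplex.d (n + 1) (n + 2))
      (by dsimp; rw [← reassoc_of% p.2.2]; simp),
      ((exact_succ O h2 I n).comp_descToInjective _ _).symm⟩

lemma aug_fromRes : aug O h2 I ≫ (fromRes O h2 I).f 0 = ι₀ I := by
  exact Injective.comp_factorThru (ι₀ I) (aug O h2 I)

include h2 I in
theorem isZero_rightDerived {B : Type u'} [Category.{v'} B] [Abelian B] (f : A ⥤ B) [f.Additive]
    (h1 : ∀ K : CochainComplex A ℕ, (∀ i, O (K.X i)) → K.Acyclic →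
      ((f.mapHomologicalComplex (ComplexShape.up ℕ)).obj K).Acyclic)
    (hX : O X) (n : ℕ) :
    IsZero ((f.rightDerived (n + 1)).obj X) := by
  let L := CochainComplex.augment (res O h2 I) (aug O h2 I) (aug_comp O h2 I)
  have hL : L.Acyclic := by
    intro i
    rcases i with _ | _ | i
    · rw [HomologicalComplex.exactAt_iff' _ 0 0 1 (CochainComplex.prev_nat_zero) (CochainComplex.next ℕ 0)]
      refine (ShortComplex.exact_iff_mono _ ?_).mpr (inferInstanceAs (Mono (aug O h2 I)))
      exact L.shape 0 0 (by simp)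
    · rw [HomologicalComplex.exactAt_iff' _ 0 1 2 (by simp) (by simp)]
      exact exact_zero O h2 I
    · rw [HomologicalComplex.exactAt_iff' _ (i + 1) (i + 2) (i + 3) (by simp) (by simp)]
      exact exact_succ O h2 I i
  have hfL := h1 L (fun i => by cases i with | zero => exact hX | succ i => exact mem_res O h2 I i) hL (n + 2)
  have hfJ : ((f.mapHomologicalComplex (ComplexShape.up ℕ)).obj (res O h2 I)).ExactAt (n + 1) := by
    rw [HomologicalComplex.exactAt_iff' _ n (n + 1) (n + 2) (by simp) (by simp)]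
    rw [HomologicalComplex.exactAt_iff' _ (n + 1) (n + 2) (n + 3) (by simp) (by simp)] at hfL
    exact hfL
  have hhom : Homotopy (toRes O h2 I ≫ fromRes O h2 I) (𝟙 I.cocomplex) := by
    refine InjectiveResolution.descHomotopy (𝟙 X) _ _ ?_ (by simp)
    ext
    simp only [CategoryTheory.Functor.map_id, Category.id_comp, HomologicalComplex.comp_f]
    rw [← Category.assoc]
    exact aug_fromRes O h2 I
  refine IsZero.of_iso ?_ (I.isoRightDerivedObj f (n + 1))
  refine (IsZero.iff_id_eq_zero _).mpr ?_
  have h := (f.mapHomotopy hhom).homologyMap_eq (n + 1)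
  rw [CategoryTheory.Functor.map_id, HomologicalComplex.homologyMap_id, CategoryTheory.Functor.map_comp,
    HomologicalComplex.homologyMap_comp] at h
  erw [← h, hfJ.isZero_homology.eq_of_tgt (HomologicalComplex.homologyMap _ _) 0, zero_comp]
  rfl

end Groth.Agent.CAlgMisc.AdaptedClass
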