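import Mathlib

/-! Flatness criterion along a nonzerodivisor. -/

set_option autoImplicit false

universe u v

open TensorProduct

namespace Groth.Agent.CAlgMisc

variable {A : Type u} [CommRing A] (π : A) (M : Type v) [AddCommGroup M] [Module A M]

/-- An element dying in `(A ⧸ Ideal.span {π}) ⊗ N` is a multiple of `π`. -/
theorem exists_eq_smul_of_one_tmul {N : Type*} [AddCommGroup N] [Module A N] {x : N}
    (hx : (1 : (A ⧸ Ideal.span {π})) ⊗ₜ[A] x = 0) : ∃ y, π • y = x := by
  have h := congrArg (quotTensorEquivQuotSMul N (Ideal.span {π})) hx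
  rw [← map_one (Ideal.Quotient.mk (Ideal.span {π})), quotTensorEquivQuotSMul_mk_tmul, one_smul, map_zero,
    Submodule.Quotient.mk_eq_zero, Submodule.ideal_span_singleton_smul] at h
  obtain ⟨y, -, hy⟩ := h
  exact ⟨y, hy⟩

theorem lTensor_quot_injective {L P : Type*} [AddCommGroup L] [Module A L] [AddCommGroup P] [Module A P]
    (i : L →ₗ[A] P) (hi : Function.Injective i) (hsat : ∀ x y, i x = π • y → ∃ x', i x' = y) :
    Function.Injective (i.baseChange (A ⧸ Ideal.span {π})) := by
  refine (injective_iff_map_eq_zero (i.baseChange (A ⧸ Ideal.span {π}))).2 fun z hz => ?_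
  obtain ⟨l, rfl⟩ := TensorProduct.mk_surjective A L (A ⧸ Ideal.span {π}) Ideal.Quotient.mk_surjective z
  rw [TensorProduct.mk_apply, LinearMap.baseChange_tmul] at hz
  obtain ⟨y, hy⟩ := exists_eq_smul_of_one_tmul π hz
  obtain ⟨x', rfl⟩ := hsat l y hy.symm
  rw [← map_smul] at hy
  rw [TensorProduct.mk_apply, ← hi hy, tmul_smul, smul_tmul', Algebra.smul_def, mul_one,
    Ideal.Quotient.algebraMap_eq, Ideal.Quotient.eq_zero_iff_mem.2 (Ideal.mem_span_singleton_self π), zero_tmul]

theorem torsionFree_tensor {N P : Type u} [AddCommGroup N] [Module A N] [AddCommGroup P] [Module A P]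
    (hbar : Module.Flat (A ⧸ Ideal.span {π}) ((A ⧸ Ideal.span {π}) ⊗[A] M))
    (φ : P →ₗ[A] N) (hφ : Function.Surjective φ)
    (hPtf : ∀ q : P ⊗[A] M, π • q = 0 → q = 0) (hNtf : ∀ x : N, π • x = 0 → x = 0) :
    ∀ w : N ⊗[A] M, π • w = 0 → w = 0 := by
  intro w hw
  obtain ⟨p, rfl⟩ := LinearMap.rTensor_surjective M hφ w
  rw [← map_smul] at hw
  obtain ⟨l, hl⟩ := (rTensor_exact M (LinearMap.exact_subtype_ker_map φ) hφ (π • p)).1 hw
  have hinj : Function.Injective ((LinearMap.ker φ).subtype.baseChange (A ⧸ Ideal.span {π})) := by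
    refine lTensor_quot_injective π _ (LinearMap.ker φ).injective_subtype fun x y hxy => ?_
    refine ⟨⟨y, LinearMap.mem_ker.2 ?_⟩, rfl⟩
    have := congrArg φ hxy
    rw [Submodule.subtype_apply, LinearMap.mem_ker.1 x.2, map_smul] at this
    exact hNtf _ this.symm
  let Mb := (A ⧸ Ideal.span {π}) ⊗[A] M
  let cb := fun (N : Type u) [AddCommGroup N] [Module A N] =>
    TensorProduct.AlgebraTensorModule.cancelBaseChange A (A ⧸ Ideal.span {π}) (A ⧸ Ideal.span {π}) Mb N
  have hinj' : Function.Injective ((LinearMap.ker φ).subtype.lTensor Mb) := by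
    have h1 := Module.Flat.lTensor_preserves_injective_linearMap (M := Mb) _ hinj
    have h2 : ∀ x, cb _ (((LinearMap.ker φ).subtype.baseChange (A ⧸ Ideal.span {π})).lTensor Mb x) =
        (LinearMap.ker φ).subtype.lTensor Mb (cb _ x) := fun x => by
      induction x using TensorProduct.induction_on with
      | zero => simp
      | add a b ha hb => simp only [map_add, ha, hb]
      | tmul a b =>
        induction b using TensorProduct.induction_on with
        | zero => simp
        | add c d hc hd => simp only [tmul_add, map_add, hc, hd]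
        | tmul c d => simp [cb]
    intro x y hxy
    obtain ⟨x', rfl⟩ := (cb _).surjective x
    obtain ⟨y', rfl⟩ := (cb _).surjective y
    rw [← h2, ← h2] at hxy
    rw [h1 ((cb _).injective hxy)]
  let sw := fun (N : Type u) [AddCommGroup N] [Module A N] =>
    (TensorProduct.assoc A (A ⧸ Ideal.span {π}) M N).symm.toLinearMap ∘ₗ
      (TensorProduct.mk A (A ⧸ Ideal.span {π}) (M ⊗[A] N) 1 ∘ₗ (TensorProduct.comm A N M).toLinearMap)
  have hsw : ∀ x, sw _ ((LinearMap.ker φ).subtype.rTensor M x) = (LinearMap.ker φ).subtype.lTensor Mb (sw _ x) :=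
    fun x => by
      induction x using TensorProduct.induction_on with
      | zero => simp
      | add a b ha hb => simp only [map_add, ha, hb]
      | tmul a b => simp [sw, Mb]
  have hsl : sw _ l = 0 := by
    refine hinj' ?_
    rw [← hsw, hl, map_zero]
    simp only [sw, LinearMap.comp_apply, map_smul, LinearEquiv.coe_coe, TensorProduct.mk_apply]
    rw [← map_smul, smul_tmul', Algebra.smul_def, mul_one, Ideal.Quotient.algebraMap_eq,
      Ideal.Quotient.eq_zero_iff_mem.2 (Ideal.mem_span_singleton_self π), zero_tmul, map_zero]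
  simp only [sw, LinearMap.comp_apply, LinearEquiv.coe_coe, LinearEquiv.map_eq_zero_iff, TensorProduct.mk_apply] at hsl
  obtain ⟨y, hy⟩ := exists_eq_smul_of_one_tmul π hsl
  obtain ⟨l', rfl⟩ := (TensorProduct.comm A (LinearMap.ker φ) M).surjective y
  rw [← map_smul] at hy
  have hl' := (TensorProduct.comm A (LinearMap.ker φ) M).injective hy
  rw [← hl', map_smul] at hl
  have hp : (LinearMap.ker φ).subtype.rTensor M l' = p := sub_eq_zero.1 (hPtf _ (by rw [smul_sub, hl, sub_self]))
  rw [← hp, ← LinearMap.comp_apply, ← LinearMap.rTensor_comp, LinearMap.comp_ker_subtype, LinearMap.rTensor_zero,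
    LinearMap.zero_apply]


theorem flat_iff (hπ : π ∈ nonZeroDivisors A) :
    Module.Flat A M ↔ (∀ (x : M) (n : ℕ), π ^ n • x = 0 → x = 0) ∧ Module.Flat (A ⧸ Ideal.span {π}) ((A ⧸ Ideal.span {π}) ⊗[A] M) ∧
        Module.Flat (Localization.Away π) (Localization.Away π ⊗[A] M) := by
  constructor
  · intro h
    refine ⟨fun x n hx => ?_, inferInstance, inferInstance⟩
    exact Module.Flat.isSMulRegular_of_nonZeroDivisors (pow_mem hπ n) (by simpa using hx)
  rintro ⟨htf, hbar, hloc⟩
  let Loc := Localization.Away π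
  haveI : Module.Flat A Loc := IsLocalization.flat Loc (Submonoid.powers π)
  haveI : Module.Flat A (Loc ⊗[A] M) := Module.Flat.trans A Loc (Loc ⊗[A] M)
  refine Module.Flat.iff_rTensor_injective.2 fun I _ => ?_
  refine (injective_iff_map_eq_zero (LinearMap.rTensor M I.subtype)).2 fun z hz => ?_
  classical
  -- some power of `π` kills `z`
  have hn : ∃ n : ℕ, π ^ n • z = 0 := by
    let e : (I : Submodule A A) ⊗[A] (Loc ⊗[A] M) ≃ₗ[A] Loc ⊗[A] ((I : Submodule A A) ⊗[A] M) :=
      TensorProduct.leftComm A _ _ _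
    let g : (I : Submodule A A) ⊗[A] M →ₗ[A] (I : Submodule A A) ⊗[A] (Loc ⊗[A] M) :=
      LinearMap.lTensor _ (TensorProduct.mk A Loc M 1)
    have hg : g z = 0 := by
      refine (Module.Flat.rTensor_preserves_injective_linearMap (M := Loc ⊗[A] M) I.subtype I.injective_subtype) ?_
      rw [map_zero, ← LinearMap.comp_apply, LinearMap.rTensor_comp_lTensor, ← LinearMap.lTensor_comp_rTensor,
        LinearMap.comp_apply, hz, map_zero]
    have h1 : (1 : Loc) ⊗ₜ[A] z = 0 := by
      have : ∀ w, e (g w) = (1 : Loc) ⊗ₜ[A] w := fun w => by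
        induction w using TensorProduct.induction_on with
        | zero => simp
        | tmul a m => simp [e, g, TensorProduct.leftComm]
        | add a b ha hb => rw [map_add, map_add, ha, hb, tmul_add]
      rw [← this, hg, map_zero]
    haveI : IsLocalizedModule (Submonoid.powers π) (TensorProduct.mk A Loc ((I : Submodule A A) ⊗[A] M) 1) :=
      (isLocalizedModule_iff_isBaseChange (Submonoid.powers π) Loc _).2 (TensorProduct.isBaseChange A _ Loc)
    obtain ⟨⟨_, n, rfl⟩, hn⟩ :=
      (IsLocalizedModule.eq_zero_iff (Submonoid.powers π) (TensorProduct.mk A Loc ((I : Submodule A A) ⊗[A] M) 1)).1 h1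
    exact ⟨n, hn⟩
  have htors : ∀ w : (I : Submodule A A) ⊗[A] M, π • w = 0 → w = 0 :=
    torsionFree_tensor π M hbar (Finsupp.linearCombination A id : ((I : Submodule A A) →₀ A) →ₗ[A] _)
      (fun m => ⟨Finsupp.single m 1, by simp⟩)
      (fun q hq => by
        refine (TensorProduct.finsuppScalarLeft A M (I : Submodule A A)).injective (Finsupp.ext fun i => ?_)
        rw [map_zero, Finsupp.zero_apply]
        refine htf _ 1 ?_
        rw [pow_one, ← Finsupp.smul_apply, ← map_smul, hq, map_zero, Finsupp.zero_apply])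
      (fun x hx => Subtype.ext ((mem_nonZeroDivisors_iff.1 hπ).1 _ (congrArg Subtype.val hx)))
  obtain ⟨n, hn⟩ := hn
  induction n with
  | zero => simpa using hn
  | succ n ih => exact ih (htors _ (by rwa [smul_smul, ← pow_succ']))

end Groth.Agent.CAlgMisc
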