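import Groth.Prelude.Def_DualLC

/-! Lengths of quotients by independent sequences. -/

set_option autoImplicit false

universe u

namespace Groth.Agent.CAlgMisc

variable {A : Type u} [CommRing A] {n : ℕ}

theorem span_update_mul_le (f : Fin n → A) (j : Fin n) (g : A) :
    Ideal.span (Set.range (Function.update f j (f j * g))) ≤ Ideal.span (Set.range f) := by
  rw [Ideal.span_le]
  rintro _ ⟨i, rfl⟩
  rcases eq_or_ne i j with rfl | h
  · rw [Function.update_self]
    exact Ideal.mul_mem_right _ _ (Ideal.subset_span ⟨i, rfl⟩)
  · rw [Function.update_of_ne h]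
    exact Ideal.subset_span ⟨i, rfl⟩

variable (f : Fin n → A) (j : Fin n) (g : A)
  (h : Dual2.Independent (Function.update f j (f j * g)))
include h

theorem mem_of_mul_mem {a : A} (ha : a * g ∈ Ideal.span (Set.range (Function.update f j (f j * g)))) :
    a ∈ Ideal.span (Set.range f) := by
  obtain ⟨c, hc⟩ := Ideal.mem_span_range_iff_exists_fun.1 ha
  set F := Function.update f j (f j * g) with hF
  have key : ∑ i, (if i = j then c j * f j - a else c i * f j) * F i = 0 := by
    have hterm : ∀ i, (if i = j then c j * f j - a else c i * f j) * F i =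
        f j * (c i * F i) - (if i = j then a * F j else 0) := fun i => by
      rcases eq_or_ne i j with rfl | hi
      · rw [if_pos rfl, if_pos rfl]; ring
      · rw [if_neg hi, if_neg hi, sub_zero]; ring
    rw [Finset.sum_congr rfl fun i _ => hterm i, Finset.sum_sub_distrib, ← Finset.mul_sum, hc,
      Finset.sum_ite_eq', if_pos (Finset.mem_univ j), hF, Function.update_self]
    ring
  have h1 := h _ key j
  rw [if_pos rfl] at h1
  have h2 := span_update_mul_le f j g h1
  have h3 : c j * f j ∈ Ideal.span (Set.range f) := Ideal.mul_mem_left _ _ (Ideal.subset_span ⟨j, rfl⟩)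
  simpa using sub_mem h3 h2

theorem independent_of_update : Dual2.Independent f := by
  intro a ha i
  set F := Function.update f j (f j * g) with hF
  have key : ∑ k, (if k = j then a j else a k * g) * F k = 0 := by
    have hterm : ∀ k, (if k = j then a j else a k * g) * F k = g * (a k * f k) := fun k => by
      rcases eq_or_ne k j with rfl | hk
      · rw [if_pos rfl, hF, Function.update_self]; ring
      · rw [if_neg hk, hF, Function.update_of_ne hk]; ring
    rw [Finset.sum_congr rfl fun k _ => hterm k, ← Finset.mul_sum, ha, mul_zero]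
  have h1 := h _ key i
  rcases eq_or_ne i j with rfl | hi
  · rw [if_pos rfl] at h1
    exact span_update_mul_le f i g h1
  · rw [if_neg hi] at h1
    exact mem_of_mul_mem f j g h h1

theorem independent_update : Dual2.Independent (Function.update f j g) := by
  refine independent_of_update (Function.update f j g) j (f j) ?_
  rw [Function.update_self, Function.update_idem, mul_comm]
  exact h

theorem length_update :
    Module.length A (A ⧸ Ideal.span (Set.range (Function.update f j (f j * g)))) =
      Module.length A (A ⧸ Ideal.span (Set.range f)) +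
        Module.length A (A ⧸ Ideal.span (Set.range (Function.update f j g))) := by
  set I := Ideal.span (Set.range (Function.update f j (f j * g)))
  set J := Ideal.span (Set.range (Function.update f j g))
  have hIJ : I ≤ J := by
    rw [Ideal.span_le]
    rintro _ ⟨i, rfl⟩
    rcases eq_or_ne i j with rfl | hi
    · rw [Function.update_self]
      exact Ideal.mul_mem_left _ _ (Ideal.subset_span ⟨i, Function.update_self ..⟩)
    · rw [Function.update_of_ne hi]
      exact Ideal.subset_span ⟨i, Function.update_of_ne hi ..⟩
  have hgI : Ideal.span (Set.range f) ≤ Submodule.comap (LinearMap.toSpanSingleton A A g) I := by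
    rw [Ideal.span_le]
    rintro _ ⟨i, rfl⟩
    change f i * g ∈ I
    rcases eq_or_ne i j with rfl | hi
    · exact Ideal.subset_span ⟨i, Function.update_self ..⟩
    · exact Ideal.mul_mem_right _ _ (Ideal.subset_span ⟨i, Function.update_of_ne hi ..⟩)
  let φ : (A ⧸ Ideal.span (Set.range f)) →ₗ[A] A ⧸ I := Submodule.mapQ _ _ (LinearMap.toSpanSingleton A A g) hgI
  let ψ : (A ⧸ I) →ₗ[A] A ⧸ J := Submodule.factor hIJ
  have hφ : Function.Injective φ := by
    refine (injective_iff_map_eq_zero φ).2 fun x => ?_
    obtain ⟨a, rfl⟩ := Submodule.Quotient.mk_surjective _ x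
    intro hx
    exact (Submodule.Quotient.mk_eq_zero _).2 (mem_of_mul_mem f j g h ((Submodule.Quotient.mk_eq_zero _).1 hx))
  refine Module.length_eq_add_of_exact φ ψ hφ (Submodule.factor_surjective hIJ) ?_
  intro x
  obtain ⟨a, rfl⟩ := Submodule.Quotient.mk_surjective _ x
  constructor
  · intro hx
    obtain ⟨c, hc⟩ := Ideal.mem_span_range_iff_exists_fun.1 ((Submodule.Quotient.mk_eq_zero _).1 hx)
    rw [LinearMap.id_apply] at hc
    refine ⟨Submodule.Quotient.mk (c j), (Submodule.Quotient.eq _).2 ?_⟩
    change c j * g - a ∈ I
    have : c j * g - a = -∑ i ∈ Finset.univ.erase j, c i * Function.update f j g i := by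
      rw [← hc, ← Finset.add_sum_erase _ _ (Finset.mem_univ j), Function.update_self]
      ring
    rw [this]
    refine neg_mem (Submodule.sum_mem _ fun i hi => ?_)
    have hi' := Finset.ne_of_mem_erase hi
    rw [Function.update_of_ne hi']
    exact Ideal.mul_mem_left _ _ (Ideal.subset_span ⟨i, Function.update_of_ne hi' ..⟩)
  · rintro ⟨y, hy⟩
    obtain ⟨b, rfl⟩ := Submodule.Quotient.mk_surjective _ y
    rw [← hy]
    exact (Submodule.Quotient.mk_eq_zero _).2 (Ideal.mul_mem_left _ b (Ideal.subset_span ⟨j, Function.update_self ..⟩))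

omit h in
theorem length_prod [IsLocalRing A] (x : Fin n → A) (hx : Ideal.span (Set.range x) = IsLocalRing.maximalIdeal A) :
    ∀ (N : ℕ) (e : Fin n → ℕ), (∑ i, e i) = N → (∀ i, 0 < e i) → Dual2.Independent (fun i => x i ^ e i) →
      Module.length A (A ⧸ Ideal.span (Set.range (fun i => x i ^ e i))) = ∏ i, (e i : ℕ∞) := by
  intro N
  induction N using Nat.strong_induction_on with
  | _ N ih =>
  intro e hN he hind
  by_cases h1 : ∀ i, e i = 1
  · have he1 : (fun i => x i ^ e i) = x := funext fun i => by rw [h1, pow_one]
    rw [he1, hx]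
    simp only [h1, Nat.cast_one, Finset.prod_const_one]
    haveI : IsSimpleModule A (A ⧸ IsLocalRing.maximalIdeal A) :=
      isSimpleModule_iff_isCoatom.2 (Ideal.isMaximal_def.1 (IsLocalRing.maximalIdeal.isMaximal A))
    exact Module.length_eq_one A _
  push Not at h1
  obtain ⟨j, hj⟩ := h1
  obtain ⟨d, hd⟩ : ∃ d, e j = d + 1 + 1 := ⟨e j - 2, by have := he j; omega⟩
  let e' := Function.update e j (d + 1)
  let e'' := Function.update e j 1
  set f : Fin n → A := fun i => x i ^ e' i with hf
  have hupd : Function.update f j (f j * x j) = fun i => x i ^ e i := by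
    ext i
    rcases eq_or_ne i j with rfl | hi
    · rw [Function.update_self, hd, pow_succ]; simp [f, e']
    · rw [Function.update_of_ne hi]; simp [f, e', Function.update_of_ne hi]
  have hupd2 : Function.update f j (x j) = fun i => x i ^ e'' i := by
    ext i
    rcases eq_or_ne i j with rfl | hi
    · rw [Function.update_self]; simp [e'']
    · rw [Function.update_of_ne hi]; simp [f, e', e'', Function.update_of_ne hi]
  rw [← hupd] at hind ⊢
  have hlt : ∀ v, v < e j → (∑ i, Function.update e j v i) < N := fun v hv => by
    rw [← hN]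
    refine Finset.sum_lt_sum (fun i _ => ?_) ⟨j, Finset.mem_univ _, by rw [Function.update_self]; exact hv⟩
    rcases eq_or_ne i j with rfl | hi
    · rw [Function.update_self]; omega
    · rw [Function.update_of_ne hi]
  have hpos : ∀ v, 0 < v → ∀ i, 0 < Function.update e j v i := fun v hv i => by
    rcases eq_or_ne i j with rfl | hi
    · rwa [Function.update_self]
    · rw [Function.update_of_ne hi]; exact he i
  have hprod : ∀ v, ∏ i, (Function.update e j v i : ℕ∞) =
      (v : ℕ∞) * ∏ i ∈ Finset.univ.erase j, (e i : ℕ∞) := fun v => by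
    rw [← Finset.mul_prod_erase _ _ (Finset.mem_univ j), Function.update_self]
    exact congrArg _ (Finset.prod_congr rfl fun i hi => by rw [Function.update_of_ne (Finset.ne_of_mem_erase hi)])
  rw [length_update f j (x j) hind, ih _ (hlt _ (by omega)) e' rfl (hpos _ (by omega)) (independent_of_update f j (x j) hind),
    hupd2, ih _ (hlt _ (by omega)) e'' rfl (hpos _ one_pos) (hupd2 ▸ independent_update f j (x j) hind), hprod, hprod,
    ← Finset.mul_prod_erase _ _ (Finset.mem_univ j), hd, ← add_mul]
  push_cast
  rfl

end Groth.Agent.CAlgMisc
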