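import Groth.Prelude.Def_BlowUp2
import Mathlib.RingTheory.Localization.Away.Basic
import Mathlib.RingTheory.Localization.Ideal

/-! Functoriality of the affine blow-up algebra. -/

set_option autoImplicit false

universe u

namespace Groth.Agent.CAlgMisc.NeronBlow

open BlowUp

variable {A : Type u} [CommRing A] {I : Ideal A} {π : A}

lemma pi_unit (A : Type u) [CommRing A] (π : A) : IsUnit (algebraMap A (Localization.Away π) π) :=
  IsLocalization.map_units (Localization.Away π) (⟨π, Submonoid.mem_powers π⟩ : Submonoid.powers π)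

lemma exists_num (x : affineAlgebra A I π) : ∃ (n : ℕ) (b : A),
    algebraMap A (affineAlgebra A I π) π ^ n * x = algebraMap A (affineAlgebra A I π) b := by
  obtain ⟨⟨b, ⟨_, n, rfl⟩⟩, h⟩ := IsLocalization.surj (Submonoid.powers π) (x : Localization.Away π)
  exact ⟨n, b, Subtype.ext (by
    rw [MulMemClass.coe_mul, SubmonoidClass.coe_pow, Subalgebra.coe_algebraMap, Subalgebra.coe_algebraMap, ← h,
      map_pow, mul_comm])⟩

lemma cancel {x y : affineAlgebra A I π} {n : ℕ}
    (h : algebraMap A (affineAlgebra A I π) π ^ n * x = algebraMap A (affineAlgebra A I π) π ^ n * y) : x = y := by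
  have := congrArg Subtype.val h
  simp only [MulMemClass.coe_mul, SubmonoidClass.coe_pow, Subalgebra.coe_algebraMap] at this
  exact Subtype.ext (((pi_unit A π).pow n).mul_left_cancel this)

lemma eq_zero_iff (b : A) : algebraMap A (affineAlgebra A I π) b = 0 ↔ ∃ k : ℕ, π ^ k * b = 0 := by
  constructor
  · intro h
    have h' : algebraMap A (Localization.Away π) b = 0 := congrArg Subtype.val h
    obtain ⟨⟨_, k, rfl⟩, hk⟩ := (IsLocalization.map_eq_zero_iff (Submonoid.powers π) _ b).mp h'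
    exact ⟨k, hk⟩
  · rintro ⟨k, hk⟩
    refine cancel (n := k) ?_
    rw [mul_zero, ← map_pow, ← map_mul, hk, map_zero]

variable (hπI : π ∈ I) {A' : Type u} [CommRing A'] {I' : Ideal A'} (f : A →+* A')
  (ψ : affineAlgebra A I π →+* affineAlgebra A' I' (f π))
  (hψ : ∀ x : affineAlgebra A I π, ((ψ x : affineAlgebra A' I' (f π)) : Localization.Away (f π)) =
    Localization.awayMap f π (x : Localization.Away π))

include hψ

lemma psi_algebraMap (b : A) :
    ψ (algebraMap A (affineAlgebra A I π) b) = algebraMap A' (affineAlgebra A' I' (f π)) (f b) := by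
  refine Subtype.ext ?_
  rw [hψ, Subalgebra.coe_algebraMap, Subalgebra.coe_algebraMap]
  exact IsLocalization.map_eq _ b

/-- The generators of the target. -/
lemma gen_mem {y : A} (hy : y ∈ I) (g : affineAlgebra A' I' (f π))
    (hg : algebraMap A' (affineAlgebra A' I' (f π)) (f π) * g = algebraMap A' _ (f y)) : g ∈ ψ.range := by
  let x : affineAlgebra A I π := ⟨_, Algebra.subset_adjoin ⟨y, hy, rfl⟩⟩
  have hx : algebraMap A (affineAlgebra A I π) π * x = algebraMap A _ y :=
    Subtype.ext (IsLocalization.mk'_spec' (Localization.Away π) y (⟨π, Submonoid.mem_powers π⟩ : Submonoid.powers π))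
  refine ⟨x, cancel (n := 1) ?_⟩
  rw [pow_one, hg, ← psi_algebraMap f ψ hψ, ← map_mul, hx, psi_algebraMap f ψ hψ]

theorem surjective (hf : Function.Surjective f) (hI : I' = I.map f) : Function.Surjective ψ := by
  suffices h : ∀ z (hz : z ∈ affineAlgebra A' I' (f π)), (⟨z, hz⟩ : affineAlgebra A' I' (f π)) ∈ ψ.range from
    fun z => h z.1 z.2
  intro z hz
  induction hz using Algebra.adjoin_induction with
  | mem z hz =>
    obtain ⟨x, hx, rfl⟩ := hz
    rw [hI] at hx
    obtain ⟨y, hy, rfl⟩ := (Ideal.mem_map_iff_of_surjective f hf).mp hx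
    exact gen_mem f ψ hψ hy _ (Subtype.ext (IsLocalization.mk'_spec' (Localization.Away (f π)) (f y)
      (⟨f π, Submonoid.mem_powers _⟩ : Submonoid.powers (f π))))
  | algebraMap r =>
    obtain ⟨r, rfl⟩ := hf r
    exact ⟨algebraMap A _ r, psi_algebraMap f ψ hψ r⟩
  | add x y hx hy ihx ihy => exact add_mem ihx ihy
  | mul x y hx hy ihx ihy => exact mul_mem ihx ihy

theorem mem_ker_iff (x : affineAlgebra A I π) :
    x ∈ RingHom.ker ψ ↔ ∃ n : ℕ, algebraMap A (affineAlgebra A I π) π ^ n * x ∈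
      (RingHom.ker f).map (algebraMap A (affineAlgebra A I π)) := by
  constructor
  · intro hx
    obtain ⟨n, b, hb⟩ := exists_num x
    have h0 : algebraMap A' (affineAlgebra A' I' (f π)) (f b) = 0 := by
      rw [← psi_algebraMap f ψ hψ, ← hb, map_mul, RingHom.mem_ker.mp hx, mul_zero]
    obtain ⟨k, hk⟩ := (eq_zero_iff _).mp h0
    refine ⟨k + n, ?_⟩
    rw [pow_add, mul_assoc, hb, ← map_pow, ← map_mul]
    exact Ideal.mem_map_of_mem _ (RingHom.mem_ker.mpr (by rw [map_mul, map_pow, hk]))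
  · rintro ⟨n, hn⟩
    have hle : (RingHom.ker f).map (algebraMap A (affineAlgebra A I π)) ≤ RingHom.ker ψ :=
      Ideal.map_le_iff_le_comap.mpr fun b hb => by
        rw [Ideal.mem_comap, RingHom.mem_ker, psi_algebraMap f ψ hψ, RingHom.mem_ker.mp hb, map_zero]
    have h := RingHom.mem_ker.mp (hle hn)
    rw [map_mul, map_pow, psi_algebraMap f ψ hψ] at h
    exact RingHom.mem_ker.mpr (cancel (n := n) (by rw [h, mul_zero]))

theorem exists_pow_mul_mem {a : A} [Algebra A A'] [IsLocalization.Away a A'] (hf : f = algebraMap A A')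
    (hI : I' = I.map f) (z : affineAlgebra A' I' (f π)) :
    ∃ n : ℕ, z * ψ (algebraMap A (affineAlgebra A I π) a) ^ n ∈ ψ.range := by
  suffices h : ∀ z (hz : z ∈ affineAlgebra A' I' (f π)),
      ∃ n : ℕ, (⟨z, hz⟩ : affineAlgebra A' I' (f π)) * ψ (algebraMap A (affineAlgebra A I π) a) ^ n ∈ ψ.range from
    h z.1 z.2
  intro z hz
  have hup : ∀ (w : affineAlgebra A' I' (f π)) (n m : ℕ), n ≤ m →
      w * ψ (algebraMap A (affineAlgebra A I π) a) ^ n ∈ ψ.range →
      w * ψ (algebraMap A (affineAlgebra A I π) a) ^ m ∈ ψ.range := fun w n m h hw => by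
    obtain ⟨d, rfl⟩ := Nat.exists_eq_add_of_le h
    rw [pow_add, ← mul_assoc]
    exact mul_mem hw (pow_mem (RingHom.mem_range.mpr ⟨_, rfl⟩) d)
  induction hz using Algebra.adjoin_induction with
  | mem z hz =>
    obtain ⟨x, hx, rfl⟩ := hz
    rw [hI, hf, IsLocalization.mem_map_algebraMap_iff (Submonoid.powers a) A'] at hx
    obtain ⟨⟨⟨y, hy⟩, ⟨_, k, rfl⟩⟩, h⟩ := hx
    refine ⟨k, gen_mem f ψ hψ hy _ ?_⟩
    have hs : algebraMap A' (affineAlgebra A' I' (f π)) (f π) *
        (⟨_, Algebra.subset_adjoin ⟨x, by rw [hI, hf, IsLocalization.mem_map_algebraMap_iff (Submonoid.powers a) A']; exact ⟨⟨⟨y, hy⟩, ⟨_, k, rfl⟩⟩, h⟩, rfl⟩⟩ : affineAlgebra A' I' (f π)) =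
        algebraMap A' _ x :=
      Subtype.ext (IsLocalization.mk'_spec' (Localization.Away (f π)) x
        (⟨f π, Submonoid.mem_powers _⟩ : Submonoid.powers (f π)))
    rw [← mul_assoc, hs, psi_algebraMap f ψ hψ, ← map_pow, ← map_mul]
    congr 1
    rw [← map_pow, hf]
    exact h
  | algebraMap r =>
    obtain ⟨⟨b, ⟨_, k, rfl⟩⟩, h⟩ := IsLocalization.surj (Submonoid.powers a) r
    refine ⟨k, algebraMap A _ b, ?_⟩
    rw [psi_algebraMap f ψ hψ, psi_algebraMap f ψ hψ, hf, ← map_pow, ← h, map_mul, map_pow]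
    rfl
  | add x y hx hy ihx ihy =>
    obtain ⟨n, hn⟩ := ihx
    obtain ⟨m, hm⟩ := ihy
    refine ⟨max n m, ?_⟩
    rw [show (⟨x + y, add_mem hx hy⟩ : affineAlgebra A' I' (f π)) = ⟨x, hx⟩ + ⟨y, hy⟩ from rfl, add_mul]
    exact add_mem (hup _ _ _ (le_max_left n m) hn) (hup _ _ _ (le_max_right n m) hm)
  | mul x y hx hy ihx ihy =>
    obtain ⟨n, hn⟩ := ihx
    obtain ⟨m, hm⟩ := ihy
    refine ⟨n + m, ?_⟩
    rw [show (⟨x * y, mul_mem hx hy⟩ : affineAlgebra A' I' (f π)) = ⟨x, hx⟩ * ⟨y, hy⟩ from rfl, pow_add,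
      mul_mul_mul_comm]
    exact mul_mem hn hm

theorem exists_of_eq {a : A} [Algebra A A'] [IsLocalization.Away a A'] (hf : f = algebraMap A A')
    {x : affineAlgebra A I π} (hx : ψ x = 0) :
    ∃ n : ℕ, algebraMap A (affineAlgebra A I π) a ^ n * x = 0 := by
  obtain ⟨n, hn⟩ := (mem_ker_iff f ψ hψ x).mp (RingHom.mem_ker.mpr hx)
  obtain ⟨m, b, hb⟩ := exists_num x
  have h0 : algebraMap A' (affineAlgebra A' I' (f π)) (f b) = 0 := by
    rw [← psi_algebraMap f ψ hψ, ← hb, map_mul, hx, mul_zero]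
  obtain ⟨k, hk⟩ := (eq_zero_iff _).mp h0
  rw [hf, ← map_pow, ← map_mul, IsLocalization.map_eq_zero_iff (Submonoid.powers a)] at hk
  obtain ⟨⟨_, j, rfl⟩, hj⟩ := hk
  refine ⟨j, cancel (n := k + m) ?_⟩
  calc _ = algebraMap A (affineAlgebra A I π) (a ^ j * (π ^ k * b)) := by
        rw [map_mul, map_mul, map_pow, map_pow, pow_add, ← hb]; ring
    _ = _ := by rw [hj, map_zero, mul_zero]

end Groth.Agent.CAlgMisc.NeronBlow
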