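import Groth.Agent.AdicRingLib.Lift

/-! The `p`-adic dilatation algebra. -/

set_option autoImplicit false

universe u

namespace Groth.Agent.CAlgMisc.PDilat

open Groth.Agent.AdicRingLib

variable {A : Type u} [CommRing A] (p : A) {n : ℕ} (a : Fin n → A)

/-- The subalgebra of `A[1/p]` generated by the `a i / p`. -/
noncomputable def dil : Subalgebra A (Localization.Away p) :=
  Algebra.adjoin A (Set.range fun i => IsLocalization.mk' (Localization.Away p) (a i)
    (⟨p, Submonoid.mem_powers p⟩ : Submonoid.powers p))

lemma dil_gen (i : Fin n) : ∃ c : dil p a, algebraMap A (dil p a) p * c = algebraMap A (dil p a) (a i) :=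
  ⟨⟨_, Algebra.subset_adjoin ⟨i, rfl⟩⟩, Subtype.ext (IsLocalization.mk'_spec' (Localization.Away p) (a i) _)⟩

lemma dil_regular : IsSMulRegular (dil p a) (algebraMap A (dil p a) p) := fun x y h =>
  Subtype.ext ((IsLocalization.map_units (Localization.Away p)
    (⟨p, Submonoid.mem_powers p⟩ : Submonoid.powers p)).mul_left_cancel (congrArg Subtype.val h))

/-- The dilatation algebra. -/
abbrev Dil : Type u := AdicCompletion ((Ideal.span {p}).map (algebraMap A (dil p a))) (dil p a)

lemma map_eq : (Ideal.span {p}).map (algebraMap A (dil p a)) = Ideal.span {algebraMap A (dil p a) p} := by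
  rw [Ideal.map_span, Set.image_singleton]

lemma map_eq_Dil : (Ideal.span {p}).map (algebraMap A (Dil p a)) = Ideal.span {algebraMap A (Dil p a) p} :=
  (Ideal.map_span _ _).trans (congrArg Ideal.span Set.image_singleton)

lemma fg : (Ideal.span {p}).FG := ⟨{p}, by simp⟩

lemma complete : IsAdicComplete (Ideal.span {algebraMap A (Dil p a) p}) (Dil p a) := by
  have h : IsAdicComplete ((Ideal.span {p}).map (algebraMap A (dil p a))) (Dil p a) :=
    AdicCompletion.isAdicComplete ((fg p).map _)
  have h' := (IsAdicComplete.map_algebraMap_iff (S := Dil p a) ((Ideal.span {p}).map (algebraMap A (dil p a))) (Dil p a)).mpr h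
  rw [Ideal.map_map, ← IsScalarTower.algebraMap_eq, map_eq_Dil] at h'
  exact h'

lemma regular : IsSMulRegular (Dil p a) (algebraMap A (Dil p a) p) := by
  refine isSMulRegular_iff_right_eq_zero_of_smul.mpr fun x hx => ?_
  refine AdicCompletion.ext fun m => ?_
  obtain ⟨s, hs⟩ := Submodule.Quotient.mk_surjective _ (x.val (m + 1))
  have h1 : AdicCompletion.transitionMap _ _ m.le_succ (x.val (m + 1)) = x.val m := x.prop m.le_succ
  rw [← hs] at h1
  have hx' : algebraMap A (dil p a) p • x = 0 := by
    rw [← algebraMap_smul (Dil p a) (algebraMap A (dil p a) p), ← IsScalarTower.algebraMap_apply]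
    exact hx
  have h2 := congrArg (fun z : Dil p a => z.val (m + 1)) hx'
  simp only [AdicCompletion.val_smul_apply, AdicCompletion.val_zero_apply] at h2
  rw [← hs, ← Submodule.Quotient.mk_smul, Submodule.Quotient.mk_eq_zero, smul_eq_mul, smul_eq_mul,
    Ideal.mul_top, map_eq, Ideal.span_singleton_pow, Ideal.mem_span_singleton'] at h2
  obtain ⟨t, ht⟩ := h2
  rw [pow_succ', ← mul_assoc, mul_comm t, mul_assoc] at ht
  have hst : s = t * algebraMap A (dil p a) p ^ m := (dil_regular p a ht).symm
  rw [← h1, AdicCompletion.val_zero_apply]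
  show Submodule.Quotient.mk s = 0
  rw [Submodule.Quotient.mk_eq_zero, smul_eq_mul, Ideal.mul_top, map_eq, Ideal.span_singleton_pow,
    Ideal.mem_span_singleton']
  exact ⟨t, hst.symm⟩

lemma mem (i : Fin n) : algebraMap A (Dil p a) (a i) ∈ Ideal.span {algebraMap A (Dil p a) p} := by
  obtain ⟨c, hc⟩ := dil_gen p a i
  rw [Ideal.mem_span_singleton]
  exact ⟨algebraMap (dil p a) (Dil p a) c, by
    rw [IsScalarTower.algebraMap_apply A (dil p a) (Dil p a), IsScalarTower.algebraMap_apply A (dil p a) (Dil p a),
      ← map_mul, hc]⟩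

variable {B : Type u} [CommRing B] [Algebra A B]

lemma universal (hC : IsAdicComplete (Ideal.span {algebraMap A B p}) B)
    (hB : IsSMulRegular B (algebraMap A B p)) (ha : ∀ i, algebraMap A B (a i) ∈ Ideal.span {algebraMap A B p}) :
    Nonempty (Dil p a →ₐ[A] B) ∧ Subsingleton (Dil p a →ₐ[A] B) ∧
      (Function.Surjective (algebraMap A B) → ∀ f : Dil p a →ₐ[A] B, Function.Surjective f) := by
  haveI : IsAdicComplete ((Ideal.span {p}).map (algebraMap A B)) B := by
    rwa [Ideal.map_span, Set.image_singleton]
  refine ⟨?_, ⟨fun f g => completion_algHom_ext (Ideal.span {p}) (fg p) ?_⟩,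
    fun hs f y => ?_⟩
  · let j : B →ₐ[A] Localization.Away (algebraMap A B p) := IsScalarTower.toAlgHom A B _
    have hj : Function.Injective j := IsLocalization.injective (Localization.Away (algebraMap A B p))
      (show Submonoid.powers (algebraMap A B p) ≤ nonZeroDivisors B from by
        rw [Submonoid.powers_le, mem_nonZeroDivisors_iff_right]
        intro z hz
        exact hB (show algebraMap A B p • z = algebraMap A B p • 0 by rw [smul_eq_mul, smul_zero, mul_comm]; exact hz))
    let ψ : Localization.Away p →ₐ[A] Localization.Away (algebraMap A B p) :=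
      IsLocalization.liftAlgHom (M := Submonoid.powers p) (f := Algebra.ofId A _)
        (fun ⟨y, k, hk⟩ => by
          show IsUnit (algebraMap A _ y)
          rw [← hk, map_pow, IsScalarTower.algebraMap_apply A B]
          exact (IsLocalization.map_units _ (⟨_, Submonoid.mem_powers (algebraMap A B p)⟩ :
            Submonoid.powers (algebraMap A B p))).pow k)
    have hr : ∀ x : dil p a, ψ.comp (dil p a).val x ∈ j.range := fun x => by
      have hx : (dil p a) ≤ j.range.comap ψ := by
        refine Algebra.adjoin_le ?_
        rintro _ ⟨i, rfl⟩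
        obtain ⟨b, hb⟩ := Ideal.mem_span_singleton'.mp (ha i)
        refine ⟨b, ?_⟩
        have hu := IsLocalization.map_units (Localization.Away (algebraMap A B p))
          (⟨_, Submonoid.mem_powers (algebraMap A B p)⟩ : Submonoid.powers (algebraMap A B p))
        refine hu.mul_left_cancel ?_
        change j (algebraMap A B p) * j b = j (algebraMap A B p) * ψ _
        rw [← map_mul, mul_comm, hb, j.commutes, j.commutes, ← ψ.commutes p, ← map_mul,
          IsLocalization.mk'_spec' (Localization.Away p) (a i) (⟨p, Submonoid.mem_powers p⟩ : Submonoid.powers p),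
          ψ.commutes]
      exact hx x.2
    exact ⟨completionLift (Ideal.span {p}) (((AlgEquiv.ofInjective j hj).symm : j.range →ₐ[A] B).comp
      ((ψ.comp (dil p a).val).codRestrict j.range hr))⟩
  · intro x
    refine AlgHom.congr_fun (?_ : f.comp (IsScalarTower.toAlgHom A (dil p a) (Dil p a)) =
      g.comp (IsScalarTower.toAlgHom A (dil p a) (Dil p a))) x
    refine AlgHom.adjoin_ext fun z hz => ?_
    obtain ⟨i, rfl⟩ := hz
    refine hB ?_
    show algebraMap A B p * _ = algebraMap A B p * _
    have hc : algebraMap A (dil p a) p * (⟨_, Algebra.subset_adjoin ⟨i, rfl⟩⟩ : dil p a) =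
        algebraMap A (dil p a) (a i) :=
      Subtype.ext (IsLocalization.mk'_spec' (Localization.Away p) (a i) _)
    have key : ∀ (φ : dil p a →ₐ[A] B) (c : dil p a), algebraMap A (dil p a) p * c = algebraMap A (dil p a) (a i) →
        algebraMap A B p * φ c = algebraMap A B (a i) := fun φ c h => by
      rw [← φ.commutes p, ← map_mul, h, φ.commutes]
    exact (key _ _ hc).trans (key _ _ hc).symm
  · obtain ⟨x, rfl⟩ := hs y
    exact ⟨algebraMap A _ x, f.commutes x⟩

end Groth.Agent.CAlgMisc.PDilat
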