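import Mathlib.LinearAlgebra.Dual.Lemmas
import Mathlib.Algebra.Module.Projective
import Mathlib.RingTheory.Finiteness.Basic
import Mathlib.RingTheory.Ideal.Maps
import Mathlib.LinearAlgebra.Pi

/-!
Over a ring in which every proper finitely generated ideal has nonzero annihilator, injective maps
from finite free modules into projective modules split.
-/

universe u v

namespace Groth.Agent.CAlgMisc

variable {R : Type u} [CommRing R]

theorem exists_dual_eq_one (hP : ∀ I : Ideal R, I.FG → I ≠ ⊤ → I.annihilator ≠ ⊥)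
    {M : Type v} [AddCommGroup M] [Module R M] [Module.Projective R M] (v : M)
    (hv : ∀ r : R, r • v = 0 → r = 0) : ∃ f : M →ₗ[R] R, f v = 1 := by
  classical
  obtain ⟨i, hi⟩ := (Module.projective_def').1 ‹Module.Projective R M›
  set I : Ideal R := Ideal.span ((i v).support.image (i v) : Set R) with hI
  have hmem : ∀ f : M →ₗ[R] R, f v ∈ I := fun f => by
    have hv' : v = Finsupp.linearCombination R id (i v) := (LinearMap.congr_fun hi v).symm
    rw [hv', Finsupp.linearCombination_apply, Finsupp.sum, map_sum]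
    refine Submodule.sum_mem _ fun m hm => ?_
    rw [map_smul, smul_eq_mul]
    exact Ideal.mul_mem_right _ _ (Ideal.subset_span (Finset.mem_image_of_mem _ hm))
  have hle : ∀ x ∈ I, ∃ f : M →ₗ[R] R, f v = x := by
    have : I ≤ LinearMap.range (Module.Dual.eval R M v) := by
      rw [hI]
      refine Submodule.span_le.2 ?_
      intro x hx
      obtain ⟨m, -, rfl⟩ := Finset.mem_image.1 hx
      exact ⟨(Finsupp.lapply m).comp i, rfl⟩
    exact fun x hx => this hx
  by_cases hT : I = ⊤
  · exact hle 1 (hT ▸ Submodule.mem_top)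
  · obtain ⟨a, ha, ha0⟩ := Submodule.exists_mem_ne_zero_of_ne_bot
      (hP I ⟨(i v).support.image (i v), hI.symm⟩ hT)
    refine absurd (hv a ((Module.forall_dual_apply_eq_zero_iff R (a • v)).1 fun f => ?_)) ha0
    rw [map_smul]
    exact Submodule.mem_annihilator.1 ha _ (hmem f)

theorem exists_leftInverse_fin (hP : ∀ I : Ideal R, I.FG → I ≠ ⊤ → I.annihilator ≠ ⊥)
    {M : Type v} [AddCommGroup M] [Module R M] [Module.Projective R M] :
    ∀ (n : ℕ) (u : (Fin n → R) →ₗ[R] M), Function.Injective u →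
      ∃ s : M →ₗ[R] (Fin n → R), s ∘ₗ u = LinearMap.id := by
  intro n
  induction n with
  | zero => intro u _; exact ⟨0, LinearMap.ext fun x => Subsingleton.elim _ _⟩
  | succ n ih =>
    intro u hu
    set v := u (Pi.single 0 1) with hv
    obtain ⟨f, hf⟩ := exists_dual_eq_one hP v fun r hr => by
      rw [hv, ← map_smul, ← Pi.single_smul, smul_eq_mul, mul_one] at hr
      simpa using congr_fun (hu (hr.trans (map_zero u).symm)) 0
    let tl : (Fin n → R) →ₗ[R] (Fin (n + 1) → R) :=
      { toFun := fun x => Fin.cons 0 x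
        map_add' := fun x y => by ext i; refine Fin.cases ?_ ?_ i <;> simp
        map_smul' := fun c x => by ext i; refine Fin.cases ?_ ?_ i <;> simp }
    let pr : M →ₗ[R] M := LinearMap.id - (LinearMap.toSpanSingleton R M v) ∘ₗ f
    have hpr : ∀ m, pr m = m - f m • v := fun m => rfl
    have hu' : Function.Injective (pr ∘ₗ u ∘ₗ tl) := by
      rw [← LinearMap.ker_eq_bot, Submodule.eq_bot_iff]
      intro x hx
      simp only [LinearMap.mem_ker, LinearMap.comp_apply, hpr, hv] at hx
      rw [← map_smul, ← map_sub] at hx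
      have := hu (hx.trans (map_zero u).symm)
      ext i
      simpa [tl] using congr_fun this i.succ
    obtain ⟨s', hs'⟩ := ih _ hu'
    have key : ∀ x, s' (pr (u (tl x))) = x := fun x => LinearMap.congr_fun hs' x
    let s : M →ₗ[R] (Fin (n + 1) → R) :=
      tl ∘ₗ (s' ∘ₗ pr) + (LinearMap.toSpanSingleton R _ (Pi.single 0 1)) ∘ₗ
        (f - f ∘ₗ u ∘ₗ tl ∘ₗ s' ∘ₗ pr)
    refine ⟨s, LinearMap.ext fun y => ?_⟩
    obtain ⟨c, x, rfl⟩ : ∃ c x, y = c • Pi.single 0 1 + tl x := ⟨y 0, Fin.tail y, by
      ext i; refine Fin.cases ?_ ?_ i <;> simp [tl, Fin.tail]⟩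
    have h1 : s' (pr (u (c • Pi.single 0 1 + tl x))) = x := by
      rw [map_add, map_add, map_add, key, map_smul, ← hv]
      simp [hpr, hf]
    simp only [s, LinearMap.comp_apply, LinearMap.add_apply, LinearMap.sub_apply, h1,
      LinearMap.id_apply, LinearMap.toSpanSingleton_apply]
    rw [map_add u, map_smul u, ← hv, map_add f, map_smul f, hf, smul_eq_mul, mul_one,
      add_sub_cancel_right]
    exact add_comm _ _

theorem exists_leftInverse (hP : ∀ I : Ideal R, I.FG → I ≠ ⊤ → I.annihilator ≠ ⊥)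
    {M : Type v} [AddCommGroup M] [Module R M] [Module.Projective R M]
    {N : Type v} [AddCommGroup N] [Module R N] [Module.Finite R N] [Module.Projective R N]
    (u : N →ₗ[R] M) (hu : Function.Injective u) : ∃ s : M →ₗ[R] N, s ∘ₗ u = LinearMap.id := by
  obtain ⟨n, p, hp⟩ := Module.Finite.exists_fin' R N
  obtain ⟨i, hi⟩ := Module.projective_lifting_property p LinearMap.id hp
  have hpi : ∀ x, p (i x) = x := LinearMap.congr_fun hi
  let w : (Fin n → R) →ₗ[R] M × (Fin n → R) := (u ∘ₗ p).prod (LinearMap.id - i ∘ₗ p)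
  have hw : Function.Injective w := by
    rw [← LinearMap.ker_eq_bot, Submodule.eq_bot_iff]
    intro x hx
    replace hx : u (p x) = 0 ∧ x - i (p x) = 0 := Prod.ext_iff.1 hx
    have h0 : p x = 0 := hu (hx.1.trans (map_zero u).symm)
    simpa [h0] using hx.2
  obtain ⟨L, hL⟩ := exists_leftInverse_fin hP n w hw
  refine ⟨p ∘ₗ L ∘ₗ LinearMap.inl R M (Fin n → R), LinearMap.ext fun x => ?_⟩
  have : w (i x) = (u x, 0) := by simp [w, hpi]
  change p (L (u x, 0)) = x
  rw [← this, show L (w (i x)) = i x from LinearMap.congr_fun hL _, hpi]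

end Groth.Agent.CAlgMisc
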