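import Groth.Agent.QFDualLib.Synt
import Mathlib.RingTheory.PicardGroup
import Mathlib.RingTheory.Ideal.MinimalPrime.Noetherian
import Mathlib.RingTheory.Localization.Algebra
import Mathlib.RingTheory.IsTensorProduct

/-! Surjectivity of `Pic R → Pic R'` for a quotient of a reduced Noetherian ring. -/

set_option autoImplicit false

universe u

open TensorProduct

namespace Groth.Agent.CAlgMisc.PicQuot

/-- A functional nonvanishing at finitely many primes. -/
theorem exists_functional {R M : Type u} [CommRing R] [AddCommGroup M] [Module R M] [Module.Invertible R M]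
    (T : Finset (PrimeSpectrum R)) :
    ∃ φ : Module.Dual R M, ∀ p ∈ T, ∃ x : M, φ x ∉ p.asIdeal := by
  classical
  have hone : ∀ p : PrimeSpectrum R, ∃ (φ : Module.Dual R M) (x : M), φ x ∉ p.asIdeal := by
    intro p
    by_contra h
    push Not at h
    have hall : ∀ z : Module.Dual R M ⊗[R] M, contractLeft R M z ∈ p.asIdeal := fun z => by
      induction z using TensorProduct.induction_on with
      | zero => simp
      | tmul φ x => rw [contractLeft_apply]; exact h φ x
      | add a b ha hb => rw [map_add]; exact add_mem ha hb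
    obtain ⟨z, hz⟩ := (Module.Invertible.bijective (R := R) (M := M)).2 1
    exact p.isPrime.ne_top ((Ideal.eq_top_iff_one _).mpr (hz ▸ hall z))
  let U := T.filter fun p => ∀ p' ∈ T, p.asIdeal ≤ p'.asIdeal → p' = p
  have hU : ∀ p ∈ T, ∃ p' ∈ U, p.asIdeal ≤ p'.asIdeal := by
    intro p hp
    obtain ⟨p', hp', hmax⟩ := T.exists_le_maximal hp
    exact ⟨p', Finset.mem_filter.mpr ⟨hmax.prop, fun r hr hle => le_antisymm (hmax.le_of_ge hr hle) hle⟩, hp'⟩
  choose φ x hφ using hone
  have hc : ∀ p ∈ U, ∃ c : R, c ∉ p.asIdeal ∧ ∀ p' ∈ U.erase p, c ∈ p'.asIdeal := by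
    intro p hp
    by_contra h
    push Not at h
    have hle : ((U.erase p).inf PrimeSpectrum.asIdeal) ≤ p.asIdeal := fun c hc => by
      by_contra hcp
      obtain ⟨p', hp', hn⟩ := h c hcp
      exact hn ((Finset.inf_le hp' : _ ≤ p'.asIdeal) hc)
    obtain ⟨p', hp', hle'⟩ := (Ideal.IsPrime.inf_le' p.isPrime).mp hle
    have := (Finset.mem_filter.mp (Finset.mem_of_mem_erase hp')).2 p (Finset.mem_filter.mp hp).1 hle'
    exact (Finset.mem_erase.mp hp').1 this.symm
  choose c hc1 hc2 using hc
  refine ⟨∑ p ∈ U.attach, c p.1 p.2 • φ p.1, fun p hp => ?_⟩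
  obtain ⟨p', hp', hle⟩ := hU p hp
  refine ⟨x p', fun h => ?_⟩
  have h' := hle h
  rw [LinearMap.sum_apply, ← Finset.add_sum_erase _ _ (Finset.mem_attach U ⟨p', hp'⟩)] at h'
  have hrest : (∑ r ∈ U.attach.erase ⟨p', hp'⟩, (c r.1 r.2 • φ r.1) (x p')) ∈ p'.asIdeal :=
    Ideal.sum_mem _ fun r hr => Ideal.mul_mem_right _ _
      (hc2 r.1 r.2 p' (Finset.mem_erase.mpr ⟨fun e => (Finset.mem_erase.mp hr).1 (Subtype.ext e.symm), hp'⟩))
  have := (Ideal.add_mem_iff_left _ hrest).mp h'
  exact (p'.isPrime.mem_or_mem this).elim (hc1 p' hp') (hφ p')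

/-- A functional nonvanishing at every minimal prime of a reduced ring is injective. -/
theorem injective_of_reduced {R M : Type u} [CommRing R] [IsReduced R] [AddCommGroup M] [Module R M]
    [Module.Invertible R M] (φ : Module.Dual R M) (h : ∀ p ∈ minimalPrimes R, ∃ x : M, φ x ∉ p) :
    Function.Injective φ ∧ ∀ x y : M, φ y • x = φ x • y := by
  have hann : ∀ a : R, (∀ z, a * φ z = 0) → a = 0 := by
    intro a ha
    refine IsNilpotent.eq_zero (mem_nilradical.mp ?_)
    rw [nilradical, ← Ideal.sInf_minimalPrimes]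
    refine Submodule.mem_sInf.mpr fun p hp => ?_
    obtain ⟨z, hz⟩ := h p hp
    exact (hp.1.1.mem_or_mem (show a * φ z ∈ p by rw [ha]; exact p.zero_mem)).resolve_right hz
  have hswap : ∀ x y : M, φ y • x = φ x • y := fun x y => by
    obtain ⟨c, hc⟩ := (Module.Invertible.toModuleEnd_bijective R M).2 (φ.smulRight y)
    have hc' : ∀ z, c • z = φ z • y := fun z => LinearMap.congr_fun hc z
    have hcy : c = φ y := sub_eq_zero.mp (hann _ fun z => by
      have := congrArg φ (hc' z)
      rw [map_smul, map_smul, smul_eq_mul, smul_eq_mul] at this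
      linear_combination this)
    rw [← hc' x, hcy]
  refine ⟨(injective_iff_map_eq_zero φ).mpr fun x hx => ?_, hswap⟩
  rw [← Module.forall_dual_apply_eq_zero_iff R]
  intro ψ
  refine hann _ fun z => ?_
  rw [mul_comm, ← smul_eq_mul, ← map_smul, hswap x z, hx, zero_smul, map_zero]

variable {R R' : Type u} [CommRing R] [CommRing R'] [IsNoetherianRing R] [IsReduced R']

theorem surjective_map (q : R →+* R') (hq : Function.Surjective q)
    (hfin : {p : PrimeSpectrum R | RingHom.ker q ≤ p.asIdeal ∧ Module.annihilator R (RingHom.ker q) ≤ p.asIdeal}.Finite) :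
    Function.Surjective (CommRing.Pic.mapRingHom q) := by
  classical
  haveI : IsNoetherianRing R' := isNoetherianRing_of_surjective R R' q hq
  intro N
  let Z : Set (PrimeSpectrum R') := {p | p.comap q ∈ ({p : PrimeSpectrum R | RingHom.ker q ≤ p.asIdeal ∧
    Module.annihilator R (RingHom.ker q) ≤ p.asIdeal}) ∨ p.asIdeal ∈ minimalPrimes R'}
  have hZ : Z.Finite := by
    refine Set.Finite.subset ((hfin.preimage ((PrimeSpectrum.comap_injective_of_surjective q hq).injOn)).union
      ((minimalPrimes.finite_of_isNoetherianRing R').preimage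
        (fun a _ b _ h => PrimeSpectrum.ext h))) (fun p hp => hp)
  obtain ⟨φ, hφ⟩ := exists_functional (M := N) hZ.toFinset
  have hmin : ∀ p ∈ minimalPrimes R', ∃ x : N, φ x ∉ p := fun p hp =>
    hφ ⟨p, hp.1.1⟩ (hZ.mem_toFinset.mpr (Or.inr hp))
  obtain ⟨hinj, hswap⟩ := injective_of_reduced φ hmin
  let J' : Ideal R := Ideal.comap q (LinearMap.range φ)
  have hinv : Module.Invertible R J' := by
    refine QFDualLib.invertible_of_local fun P hP => ?_
    let Rp := Localization.AtPrime P
    let L := J'.map (algebraMap R Rp)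
    have hbc := ((isLocalizedModule_iff_isBaseChange P.primeCompl Rp (Algebra.idealMap Rp J')).mp inferInstance).equiv
    suffices h : Nonempty (L ≃ₗ[Rp] Rp) from ⟨hbc.trans h.some⟩
    by_cases hle : J' ≤ P
    swap
    · obtain ⟨a, ha, haP⟩ := SetLike.not_le_iff_exists.mp hle
      have htop : L = ⊤ := Ideal.eq_top_of_isUnit_mem _ (Ideal.mem_map_of_mem _ ha)
        (IsLocalization.map_units Rp (⟨a, haP⟩ : P.primeCompl))
      exact ⟨(LinearEquiv.ofEq L ⊤ htop).trans Submodule.topEquiv⟩
    have hIP : RingHom.ker q ≤ P := le_trans (fun i hi => by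
      show q i ∈ LinearMap.range φ
      rw [RingHom.mem_ker.mp hi]; exact zero_mem _) hle
    let P' : PrimeSpectrum R' := ⟨P.map q, Ideal.map_isPrime_of_surjective hq hIP⟩
    have hPP' : P'.asIdeal.comap q = P := by
      show (P.map q).comap q = P
      rw [Ideal.comap_map_of_surjective q hq]
      exact sup_eq_left.mpr hIP
    have hP'Z : P' ∉ Z → ∃ t ∈ Module.annihilator R (RingHom.ker q), t ∉ P := fun h => by
      by_contra hn
      push Not at hn
      exact h (Or.inl ⟨by show RingHom.ker q ≤ P'.asIdeal.comap q; rw [hPP']; exact hIP,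
        by show _ ≤ P'.asIdeal.comap q; rw [hPP']; exact hn⟩)
    obtain ⟨t, ht, htP⟩ := hP'Z fun h => by
      obtain ⟨x, hx⟩ := hφ P' (hZ.mem_toFinset.mpr h)
      obtain ⟨a, ha⟩ := hq (φ x)
      exact hx (ha ▸ Ideal.mem_map_of_mem q (hle (show q a ∈ LinearMap.range φ from ha ▸ ⟨x, rfl⟩)))
    have hkill : ∀ i ∈ RingHom.ker q, algebraMap R Rp i = 0 := fun i hi => by
      rw [IsLocalization.map_eq_zero_iff P.primeCompl]
      exact ⟨⟨t, htP⟩, congrArg Subtype.val (Module.mem_annihilator.mp ht ⟨i, hi⟩)⟩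
    obtain ⟨ψ, x₀, hσ⟩ : ∃ (ψ : Module.Dual R' N) (x : N), ψ x ∉ P'.asIdeal := by
      obtain ⟨f, hf⟩ := exists_functional (M := N) {P'}
      obtain ⟨x, hx⟩ := hf P' (Finset.mem_singleton_self _)
      exact ⟨f, x, hx⟩
    obtain ⟨s, hs⟩ := hq (ψ x₀)
    obtain ⟨g, hg⟩ := hq (φ x₀)
    have hsP : s ∉ P := fun h => hσ (hs ▸ Ideal.mem_map_of_mem q h)
    have hsu : IsUnit (algebraMap R Rp s) := IsLocalization.map_units Rp (⟨s, hsP⟩ : P.primeCompl)
    have hLg : L = Submodule.span Rp {algebraMap R Rp g} := by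
      refine le_antisymm (Ideal.map_le_iff_le_comap.mpr fun y hy => ?_)
        ((Submodule.span_singleton_le_iff_mem _ _).mpr (Ideal.mem_map_of_mem _
          (show q g ∈ LinearMap.range φ from hg ▸ ⟨x₀, rfl⟩)))
      obtain ⟨w, hw⟩ := (hy : q y ∈ LinearMap.range φ)
      obtain ⟨c, hc⟩ := hq (ψ w)
      have h1 : s * y - c * g ∈ RingHom.ker q := by
        rw [RingHom.mem_ker, map_sub, map_mul, map_mul, hs, hg, hc, ← hw, sub_eq_zero]
        have := congrArg ψ (hswap w x₀)
        rw [map_smul, map_smul, smul_eq_mul, smul_eq_mul] at this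
        linear_combination -this
      have h2 := hkill _ h1
      rw [map_sub, map_mul, map_mul, sub_eq_zero] at h2
      rw [Ideal.mem_comap, ← Ideal.unit_mul_mem_iff_mem _ hsu, h2]
      exact Ideal.mul_mem_left _ _ (Submodule.mem_span_singleton_self _)
    have hreg : ∀ a : Rp, a * algebraMap R Rp g = 0 → a = 0 := by
      intro a ha
      obtain ⟨⟨b, u⟩, hb⟩ := IsLocalization.surj P.primeCompl a
      have h0 : algebraMap R Rp (b * g) = 0 := by
        rw [map_mul, ← hb, mul_right_comm, ha, zero_mul]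
      obtain ⟨⟨w, hw⟩, hwb⟩ := (IsLocalization.map_eq_zero_iff P.primeCompl _ _).mp h0
      have h1 : φ (q (w * b) • x₀) = 0 := by
        rw [map_smul, smul_eq_mul, ← hg, ← map_mul, mul_assoc, hwb, map_zero]
      have h2 : w * b * s ∈ RingHom.ker q := by
        rw [RingHom.mem_ker, map_mul, hs, ← smul_eq_mul, ← map_smul,
          (injective_iff_map_eq_zero φ).mp hinj _ h1, map_zero]
      have h3 := hkill _ h2
      rw [map_mul, map_mul, ← hb, hsu.mul_left_eq_zero,
        (IsLocalization.map_units Rp (⟨w, hw⟩ : P.primeCompl)).mul_right_eq_zero,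
        (IsLocalization.map_units Rp u).mul_left_eq_zero] at h3
      exact h3
    refine ⟨(LinearEquiv.ofEq _ _ hLg).trans (LinearEquiv.symm (LinearEquiv.ofBijective
      ((LinearMap.toSpanSingleton Rp Rp (algebraMap R Rp g)).codRestrict _ fun a =>
        Submodule.mem_span_singleton.mpr ⟨a, rfl⟩) ⟨?_, ?_⟩))⟩
    · exact (injective_iff_map_eq_zero _).mpr fun a ha => hreg a (congrArg Subtype.val ha)
    · rintro ⟨z, hz⟩
      obtain ⟨a, rfl⟩ := Submodule.mem_span_singleton.mp hz
      exact ⟨a, rfl⟩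
  refine ⟨CommRing.Pic.mk R J', ?_⟩
  algebraize [q]
  change CommRing.Pic.mapAlgebra R R' (CommRing.Pic.mk R J') = N
  rw [CommRing.Pic.mapAlgebra_apply, CommRing.Pic.mk_eq_iff]
  let J : Submodule R' R' := LinearMap.range φ
  let eN : N ≃ₗ[R'] J := LinearEquiv.ofInjective φ hinj
  haveI : Module.Invertible R' J := Module.Invertible.congr eN
  let f₀ : J' →ₗ[R] J :=
    { toFun := fun a => ⟨q a, a.2⟩
      map_add' := fun a b => Subtype.ext (map_add q _ _)
      map_smul' := fun r a => Subtype.ext (by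
        show q (r * (a : R)) = r • q (a : R)
        rw [map_mul, Algebra.smul_def]; rfl) }
  let f : R' ⊗[R] J' →ₗ[R'] J := f₀.liftBaseChange R'
  have hf : Function.Surjective f := fun ⟨z, hz⟩ => by
    obtain ⟨a, rfl⟩ := hq z
    exact ⟨1 ⊗ₜ ⟨a, hz⟩, by simp [f, f₀]⟩
  exact ⟨(AlgebraTensorModule.congr (LinearEquiv.refl R' R') (CommRing.Pic.mk.linearEquiv R J')).trans
    ((LinearEquiv.ofBijective f (Module.Invertible.bijective_of_surjective hf)).trans eN.symm)⟩

end Groth.Agent.CAlgMisc.PicQuot
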