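import Mathlib.Analysis.Real.Sqrt
import Mathlib.Analysis.Matrix.Normed
import Mathlib.LinearAlgebra.Matrix.ToLin
import Mathlib.LinearAlgebra.Basis.VectorSpace
import Mathlib.Topology.Algebra.Order.Archimedean
import Mathlib.Analysis.Convex.StdSimplex
import Mathlib.Tactic.Positivity
import Mathlib.Tactic.LinearCombination

/-! The maximum of a linear form over the square root of a quadratic form on an orthant is attained at
a rational point. -/

set_option autoImplicit false

open Matrix Filter Topology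

namespace Groth.Agent.CAlgMisc.RatMax

theorem exists_inner_inverse {K V W : Type*} [Field K] [AddCommGroup V] [Module K V] [AddCommGroup W]
    [Module K W] (f : V →ₗ[K] W) : ∃ g : W →ₗ[K] V, f ∘ₗ g ∘ₗ f = f := by
  obtain ⟨s, hs⟩ := f.rangeRestrict.exists_rightInverse_of_surjective f.range_rangeRestrict
  obtain ⟨g, hg⟩ := LinearMap.exists_extend s
  refine ⟨g, LinearMap.ext fun x => ?_⟩
  have h1 : g (f x) = s (f.rangeRestrict x) := LinearMap.congr_fun hg (f.rangeRestrict x)
  have h2 := congrArg Subtype.val (LinearMap.congr_fun hs (f.rangeRestrict x))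
  rw [LinearMap.comp_apply, LinearMap.comp_apply, h1]
  exact h2

/-- A rational linear system with a real solution has rational solutions near it. -/
theorem exists_rat_solution {n : ℕ} (C : Matrix (Fin n) (Fin n) ℚ) (b : Fin n → ℚ) (y : Fin n → ℝ)
    (hy : C.map (Rat.castHom ℝ) *ᵥ y = fun i => (b i : ℝ)) {U : Set (Fin n → ℝ)} (hU : IsOpen U) (hyU : y ∈ U) :
    ∃ x : Fin n → ℚ, C *ᵥ x = b ∧ (fun i => (x i : ℝ)) ∈ U := by
  classical
  let cast := Rat.castHom ℝ
  obtain ⟨g, hg⟩ := exists_inner_inverse (Matrix.toLin' C)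
  set G := LinearMap.toMatrix' g with hGdef
  have hG : C * (G * C) = C := by
    have := congrArg LinearMap.toMatrix' hg
    rwa [LinearMap.toMatrix'_comp, LinearMap.toMatrix'_comp, LinearMap.toMatrix'_toLin', ← hGdef] at this
  have hGR : C.map cast * (G.map cast * C.map cast) = C.map cast := by
    rw [← Matrix.map_mul, ← Matrix.map_mul, hG]
  let φ : (Fin n → ℝ) → (Fin n → ℝ) := fun z =>
    G.map cast *ᵥ (fun i => (b i : ℝ)) + (z - (G.map cast * C.map cast) *ᵥ z)
  have hφy : φ y = y := by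
    simp only [φ]
    rw [← Matrix.mulVec_mulVec, hy]
    abel
  have hφc : Continuous φ := by
    exact continuous_const.add (continuous_id.sub (continuous_const.matrix_mulVec continuous_id))
  have hd : DenseRange fun q : Fin n → ℚ => fun i => (q i : ℝ) :=
    DenseRange.piMap (fun _ => Rat.denseRange_cast)
  obtain ⟨_, hz, q, rfl⟩ := hd.inter_open_nonempty (φ ⁻¹' U) (hU.preimage hφc) ⟨y, by simpa [hφy] using hyU⟩
  have hmap : ∀ (D : Matrix (Fin n) (Fin n) ℚ) (v : Fin n → ℚ),
      D.map cast *ᵥ (fun i => (v i : ℝ)) = fun i => ((D *ᵥ v) i : ℝ) := fun D v => by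
    funext i
    exact (RingHom.map_mulVec cast D v i).symm
  have hb : C *ᵥ (G *ᵥ b) = b := by
    have hC : C.map cast *ᵥ (G.map cast *ᵥ fun i => (b i : ℝ)) = fun i => (b i : ℝ) := by
      rw [← hy, Matrix.mulVec_mulVec, Matrix.mulVec_mulVec, Matrix.mul_assoc, hGR]
    rw [hmap, hmap] at hC
    funext i
    exact Rat.cast_injective (congrFun hC i)
  refine ⟨G *ᵥ b + (q - (G * C) *ᵥ q), ?_, ?_⟩
  · rw [Matrix.mulVec_add, hb, Matrix.mulVec_sub, Matrix.mulVec_mulVec, hG, sub_self, add_zero]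
  · have e : φ (fun i => (q i : ℝ)) = fun i => (((G *ᵥ b + (q - (G * C) *ᵥ q)) i : ℚ) : ℝ) := by
      simp only [φ]
      rw [hmap, ← Matrix.map_mul, hmap]
      funext i
      simp
    rw [← e]
    exact hz

theorem exists_max {n : ℕ} (ℓ : Fin n → ℚ) (B : Matrix (Fin n) (Fin n) ℚ)
    (hpos : ∀ y : Fin n → ℝ, (∀ i, 0 ≤ y i) → y ≠ 0 → 0 < y ⬝ᵥ (B.map (fun r : ℚ => (r : ℝ))) *ᵥ y)
    (hℓ : ∃ y : Fin n → ℝ, (∀ i, 0 ≤ y i) ∧ 0 < (fun i => (ℓ i : ℝ)) ⬝ᵥ y) :
    ∃ x : Fin n → ℚ, (∀ i, 0 ≤ x i) ∧ x ≠ 0 ∧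
      ∀ y : Fin n → ℝ, (∀ i, 0 ≤ y i) → y ≠ 0 →
        (fun i => (ℓ i : ℝ)) ⬝ᵥ y / Real.sqrt (y ⬝ᵥ (B.map (fun r : ℚ => (r : ℝ))) *ᵥ y) ≤
          (fun i => (ℓ i : ℝ)) ⬝ᵥ (fun i => (x i : ℝ)) /
            Real.sqrt ((fun i => (x i : ℝ)) ⬝ᵥ (B.map (fun r : ℚ => (r : ℝ))) *ᵥ (fun i => (x i : ℝ))) := by
  classical
  set L : (Fin n → ℝ) → ℝ := fun y => (fun i => (ℓ i : ℝ)) ⬝ᵥ y with hL
  set M : Matrix (Fin n) (Fin n) ℝ := B.map (fun r : ℚ => (r : ℝ)) with hM
  set q : (Fin n → ℝ) → ℝ := fun y => y ⬝ᵥ M *ᵥ y with hq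
  set f : (Fin n → ℝ) → ℝ := fun y => L y / Real.sqrt (q y) with hf
  have hsc : ∀ (t : ℝ) (y : Fin n → ℝ), 0 < t → f (t • y) = f y := fun t y ht => by
    simp only [hf, hL, hq, dotProduct_smul, smul_dotProduct, Matrix.mulVec_smul, smul_eq_mul]
    rw [← mul_assoc t t, Real.sqrt_mul (by positivity), Real.sqrt_mul_self ht.le]
    rcases eq_or_ne (Real.sqrt (y ⬝ᵥ M *ᵥ y)) 0 with h | h
    · rw [h]; simp
    · field_simp
  obtain ⟨y₀, hy₀, hy₀L⟩ := hℓ
  have hsum : ∀ y : Fin n → ℝ, (∀ i, 0 ≤ y i) → y ≠ 0 → 0 < ∑ i, y i := fun y hy hy0 => by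
    refine (Finset.sum_nonneg fun i _ => hy i).lt_of_ne fun h => hy0 ?_
    funext i
    exact (Finset.sum_eq_zero_iff_of_nonneg fun i _ => hy i).mp h.symm i (Finset.mem_univ i)
  have hy₀0 : y₀ ≠ 0 := fun h => by simp [h] at hy₀L
  have hnorm : ∀ y : Fin n → ℝ, (∀ i, 0 ≤ y i) → y ≠ 0 → (∑ i, y i)⁻¹ • y ∈ stdSimplex ℝ (Fin n) := fun y hy hy0 => by
    have hs := hsum y hy hy0
    refine ⟨fun i => mul_nonneg (inv_nonneg.mpr hs.le) (hy i), ?_⟩
    simp only [Pi.smul_apply, smul_eq_mul, ← Finset.mul_sum]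
    exact inv_mul_cancel₀ hs.ne'
  have hne : ∀ y ∈ stdSimplex ℝ (Fin n), y ≠ 0 := fun y hy h => by
    simpa [h] using hy.2
  have hcont : ContinuousOn f (stdSimplex ℝ (Fin n)) := by
    refine ContinuousOn.div ?_ ?_ fun y hy => (Real.sqrt_pos.mpr (hpos y hy.1 (hne y hy))).ne'
    · exact (continuous_const.dotProduct continuous_id).continuousOn
    · exact (Real.continuous_sqrt.comp (continuous_id.dotProduct (continuous_const.matrix_mulVec continuous_id))).continuousOn
  obtain ⟨z, hz, hzmax⟩ := (isCompact_stdSimplex ℝ (Fin n)).exists_isMaxOn ⟨_, hnorm y₀ hy₀ hy₀0⟩ hcont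
  have hmax : ∀ y : Fin n → ℝ, (∀ i, 0 ≤ y i) → y ≠ 0 → f y ≤ f z := fun y hy hy0 => by
    rw [← hsc _ y (inv_pos.mpr (hsum y hy hy0))]
    exact hzmax (hnorm y hy hy0)
  have hqz : 0 < q z := hpos z hz.1 (hne z hz)
  have hfz : 0 < f z :=
    lt_of_lt_of_le (div_pos hy₀L (Real.sqrt_pos.mpr (hpos y₀ hy₀ hy₀0))) (hmax y₀ hy₀ hy₀0)
  set μ := f z with hμ
  have hLz : L z = μ * Real.sqrt (q z) := (div_mul_cancel₀ _ (Real.sqrt_pos.mpr hqz).ne').symm
  have hLz0 : 0 < L z := by rw [hLz]; positivity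
  -- first order condition
  have hgrad : ∀ i, 0 < z i → μ ^ 2 * ((M *ᵥ z) i + (z ᵥ* M) i) = 2 * L z * ℓ i := by
    intro i hi
    set A := μ ^ 2 * ((M *ᵥ z) i + (z ᵥ* M) i) - 2 * L z * ℓ i with hA
    set C := μ ^ 2 * M i i - (ℓ i : ℝ) ^ 2 with hC
    have hev : ∀ᶠ t in 𝓝 (0 : ℝ), 0 ≤ t * (A + t * C) := by
      have h1 : ∀ᶠ t in 𝓝 (0 : ℝ), 0 < z i + t :=
        ((continuous_const.add continuous_id).continuousAt).eventually_const_lt (by simpa using hi)
      have h2 : ∀ᶠ t in 𝓝 (0 : ℝ), 0 < L z + t * ℓ i :=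
        ((continuous_const.add (continuous_id.mul continuous_const)).continuousAt).eventually_const_lt (by simpa using hLz0)
      filter_upwards [h1, h2] with t ht1 ht2
      let w : Fin n → ℝ := z + t • Pi.single i 1
      have hw : ∀ j, 0 ≤ w j := fun j => by
        rcases eq_or_ne j i with rfl | hj
        · simp [w]; linarith
        · simp [w, hj]; exact hz.1 j
      have hw0 : w ≠ 0 := fun h => by
        have := congrFun h i
        simp [w] at this
        linarith
      have hLw : L w = L z + t * ℓ i := by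
        simp [w, hL, dotProduct_add, dotProduct_smul]
      have hqw : q w = q z + t * ((M *ᵥ z) i + (z ᵥ* M) i) + t ^ 2 * M i i := by
        simp only [hq, w, Matrix.mulVec_add, Matrix.mulVec_smul, add_dotProduct, dotProduct_add, smul_dotProduct,
          dotProduct_smul, smul_eq_mul]
        rw [single_one_dotProduct, single_one_dotProduct, Matrix.dotProduct_mulVec z M (Pi.single i 1),
          dotProduct_single_one, Matrix.mulVec_single_one]
        simp [Matrix.col]
        ring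
      have hqw0 : 0 < q w := hpos w hw hw0
      have hle : L w ≤ μ * Real.sqrt (q w) := (div_le_iff₀ (Real.sqrt_pos.mpr hqw0)).mp (hmax w hw hw0)
      have hsq : L w ^ 2 ≤ μ ^ 2 * q w := by
        calc L w ^ 2 ≤ (μ * Real.sqrt (q w)) ^ 2 := pow_le_pow_left₀ (by rw [hLw]; exact ht2.le) hle 2
          _ = _ := by rw [mul_pow, Real.sq_sqrt hqw0.le]
      have hzsq : L z ^ 2 = μ ^ 2 * q z := by rw [hLz, mul_pow, Real.sq_sqrt hqz.le]
      rw [hLw, hqw] at hsq
      simp only [hA, hC]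
      nlinarith
    by_contra hne'
    have hA0 : A ≠ 0 := sub_ne_zero.mpr hne'
    have hlim : ∀ᶠ t in 𝓝 (0 : ℝ), 0 < A * (A + t * C) :=
      ((continuous_const.mul (continuous_const.add (continuous_id.mul continuous_const))).continuousAt).eventually_const_lt
        (by simpa using mul_self_pos.mpr hA0)
    obtain ⟨ε, hε, hε'⟩ := Metric.eventually_nhds_iff.mp (hev.and hlim)
    rcases hA0.lt_or_gt with hneg | hposA
    · obtain ⟨h1, h2⟩ := @hε' (ε / 2) (by rw [Real.dist_eq, sub_zero, abs_of_pos (by linarith)]; linarith)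
      nlinarith
    · obtain ⟨h1, h2⟩ := @hε' (-(ε / 2)) (by rw [Real.dist_eq, sub_zero, abs_neg, abs_of_pos (by linarith)]; linarith)
      nlinarith
  -- the linear system
  let C : Matrix (Fin n) (Fin n) ℚ := Matrix.of fun i j =>
    if 0 < z i then B i j + B j i else if i = j then 1 else 0
  let b : Fin n → ℚ := fun i => if 0 < z i then 2 * ℓ i else 0
  set c := μ ^ 2 / L z with hc
  have hc0 : 0 < c := by positivity
  have hrowR : ∀ (y : Fin n → ℝ) i, (C.map (Rat.castHom ℝ) *ᵥ y) i =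
      if 0 < z i then (M *ᵥ y) i + (y ᵥ* M) i else y i := by
    intro y i
    simp only [Matrix.mulVec, Matrix.vecMul, dotProduct, Matrix.map_apply, C, Matrix.of_apply, hM]
    split
    · rw [← Finset.sum_add_distrib]
      exact Finset.sum_congr rfl fun j _ => by simp; ring
    · rw [Finset.sum_eq_single i]
      · simp
      · intro j _ hj; simp [Ne.symm hj]
      · simp
  have hsol : C.map (Rat.castHom ℝ) *ᵥ (c • z) = fun i => (b i : ℝ) := by
    funext i
    rw [hrowR]
    simp only [b]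
    split
    · rename_i h
      rw [Matrix.mulVec_smul, Matrix.smul_vecMul, Pi.smul_apply, Pi.smul_apply, smul_eq_mul, smul_eq_mul,
        ← mul_add, hc, div_mul_eq_mul_div, hgrad i h]
      push_cast
      field_simp
    · rename_i h
      have : z i = 0 := le_antisymm (not_lt.mp h) (hz.1 i)
      simp [this]
  obtain ⟨x, hx, hxU⟩ := exists_rat_solution C b (c • z) hsol
    (U := {y | ∀ i, 0 < z i → 0 < y i})
    (by
      simp only [Set.ofPred_forall]
      exact isOpen_iInter_of_finite fun i => isOpen_iInter_of_finite fun _ =>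
        isOpen_lt continuous_const (continuous_apply i))
    (fun i hi => mul_pos hc0 hi)
  set xr : Fin n → ℝ := fun i => (x i : ℝ) with hxr
  have hxs : C.map (Rat.castHom ℝ) *ᵥ xr = fun i => (b i : ℝ) := by
    funext i
    rw [← hx]
    exact (RingHom.map_mulVec (Rat.castHom ℝ) C x i).symm
  have hzero : ∀ (y : Fin n → ℝ), C.map (Rat.castHom ℝ) *ᵥ y = (fun i => (b i : ℝ)) → ∀ i, z i = 0 → y i = 0 := by
    intro y hy i hi
    have := congrFun hy i
    rw [hrowR] at this
    simpa [b, hi] using this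
  have hcross : ∀ (y w : Fin n → ℝ), C.map (Rat.castHom ℝ) *ᵥ y = (fun i => (b i : ℝ)) → (∀ i, z i = 0 → w i = 0) →
      w ⬝ᵥ M *ᵥ y + y ⬝ᵥ M *ᵥ w = 2 * L w := by
    intro y w hy hw
    rw [Matrix.dotProduct_mulVec y M w, dotProduct_comm (y ᵥ* M) w, ← dotProduct_add, hL]
    simp only [dotProduct, Finset.mul_sum]
    refine Finset.sum_congr rfl fun i _ => ?_
    by_cases hi : 0 < z i
    · have := congrFun hy i
      rw [hrowR] at this
      simp only [hi, if_true, b, Rat.cast_mul, Rat.cast_ofNat] at this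
      rw [Pi.add_apply, this]; ring
    · rw [hw i (le_antisymm (not_lt.mp hi) (hz.1 i))]; simp
  have hxz := hzero xr hxs
  have hsz := hzero _ hsol
  have e1 : q xr = L xr := by have := hcross xr xr hxs hxz; simp only [hq]; linarith
  have e2 : q (c • z) = L (c • z) := by have := hcross _ _ hsol hsz; simp only [hq]; linarith
  have e3 : L xr = L (c • z) := by
    have h1 := hcross _ _ hsol hxz
    have h2 := hcross _ _ hxs hsz
    linarith
  have hfx : f xr = μ := by
    rw [hμ, ← hsc c z hc0]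
    simp only [hf, e1, e2, e3]
  refine ⟨x, fun i => ?_, fun h => ?_, fun y hy hy0 => ?_⟩
  · by_cases hi : 0 < z i
    · have h1 : (0 : ℝ) < (x i : ℝ) := hxU i hi
      exact_mod_cast h1.le
    · have h1 : (x i : ℝ) = 0 := hxz i (le_antisymm (not_lt.mp hi) (hz.1 i))
      exact_mod_cast h1.ge
  · obtain ⟨i, hi⟩ : ∃ i, 0 < z i := by
      by_contra hall
      push Not at hall
      exact hne z hz (funext fun i => le_antisymm (hall i) (hz.1 i))
    have h1 : (0 : ℝ) < (x i : ℝ) := hxU i hi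
    simp [h] at h1
  · have := hmax y hy hy0
    rw [← hfx] at this
    exact this

end Groth.Agent.CAlgMisc.RatMax
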