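import Mathlib.LinearAlgebra.Matrix.Determinant.Basic
import Mathlib.LinearAlgebra.Matrix.NonsingularInverse
import Mathlib.RingTheory.LocalRing.MaximalIdeal.Basic
import Mathlib.Tactic.LinearCombination

/-! Normal form of an invertible skew-hermitian matrix over a local ring whose involution is trivial
modulo the maximal ideal. -/

set_option autoImplicit false

namespace Groth.Agent.CAlgMisc.SkewHerm

open Matrix IsLocalRing

variable {A : Type*} [CommRing A] (lam : A ≃+* A)

/-- The conjugate transpose with respect to `lam`. -/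
def ct {m n : Type*} (M : Matrix m n A) : Matrix n m A := (M.map lam).transpose

lemma ct_apply {m n : Type*} (M : Matrix m n A) (i : n) (j : m) : ct lam M i j = lam (M j i) := rfl

lemma ct_mul {l m n : Type*} [Fintype m] (M : Matrix l m A) (N : Matrix m n A) :
    ct lam (M * N) = ct lam N * ct lam M := by
  rw [ct, Matrix.map_mul, transpose_mul]; rfl

lemma ct_ct (hlam : Function.Involutive lam) {m n : Type*} (M : Matrix m n A) :
    ct lam (ct lam M) = M := by
  ext i j; simp [ct_apply, hlam _]

lemma ct_neg {m n : Type*} (M : Matrix m n A) : ct lam (-M) = -ct lam M := by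
  ext i j; simp [ct_apply]

lemma ct_fromBlocks {l m n o : Type*} (P : Matrix n l A) (Q : Matrix n m A) (R : Matrix o l A)
    (S : Matrix o m A) :
    ct lam (fromBlocks P Q R S) = fromBlocks (ct lam P) (ct lam R) (ct lam Q) (ct lam S) := by
  ext (i | i) (j | j) <;> rfl

lemma ct_submatrix {m n m' n' : Type*} (M : Matrix m n A) (e : m' → m) (f : n' → n) :
    ct lam (M.submatrix e f) = (ct lam M).submatrix f e := rfl

/-- Conjugation preserves skew-hermitian matrices. -/
lemma skew_conj (hlam : Function.Involutive lam) {m n : Type*} [Fintype m] {h : Matrix m m A}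
    (hs : -ct lam h = h) (v : Matrix m n A) : -ct lam (ct lam v * h * v) = ct lam v * h * v := by
  rw [ct_mul, ct_mul, ct_ct lam hlam, ← Matrix.mul_assoc]
  conv_rhs => rw [← hs]
  rw [Matrix.mul_neg, Matrix.neg_mul]

variable [IsLocalRing A]

/-- The normal form. -/
def Good (n : ℕ) (g : Matrix (Fin n) (Fin n) A) : Prop :=
  ∀ i j : Fin n,
    (i.val / 2 ≠ j.val / 2 → g i j = 0) ∧
    (i.val / 2 = j.val / 2 → (Even i.val ↔ Even j.val) → g i j ∈ maximalIdeal A) ∧
    (i.val / 2 = j.val / 2 → Even i.val → ¬ Even j.val → g i j - 1 ∈ maximalIdeal A) ∧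
    (i.val / 2 = j.val / 2 → ¬ Even i.val → Even j.val → g i j + 1 ∈ maximalIdeal A)

theorem exists_good (hlam : Function.Involutive lam) (hid : ∀ a, lam a - a ∈ maximalIdeal A)
    (h2 : IsUnit (2 : A)) : ∀ n (h : Matrix (Fin n) (Fin n) A), IsUnit h → -ct lam h = h →
      Even n ∧ ∃ v : Matrix (Fin n) (Fin n) A, IsUnit v ∧ Good n (ct lam v * h * v) := by
  have hdiag : ∀ {m : Type} (h : Matrix m m A) (i : m), -ct lam h = h → h i i ∈ maximalIdeal A := by
    intro m h i hs
    have e := congrFun (congrFun hs i) i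
    rw [Matrix.neg_apply, ct_apply] at e
    have : (2 : A) * h i i ∈ maximalIdeal A := by
      have := (maximalIdeal A).neg_mem (hid (h i i))
      rwa [show (2 : A) * h i i = -(lam (h i i) - h i i) by linear_combination -e]
    exact (Ideal.unit_mul_mem_iff_mem _ h2).mp this
  intro n
  induction n using Nat.strong_induction_on with
  | _ n ih =>
  intro h hu hs
  match n with
  | 0 => exact ⟨Even.zero, 1, isUnit_one, fun i => i.elim0⟩
  | 1 =>
    rw [Matrix.isUnit_iff_isUnit_det, det_fin_one] at hu
    exact absurd hu (hdiag h 0 hs)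
  | m + 2 =>
    let e : Fin 2 ⊕ Fin m ≃ Fin (m + 2) := finSumFinEquiv.trans (finCongr (add_comm 2 m))
    have he0 : ∀ k, (e (Sum.inl k)).val = k.val := fun k => by simp [e]
    have he1 : ∀ k, (e (Sum.inr k)).val = 2 + k.val := fun k => by simp [e, Nat.add_comm]
    -- a unit off-diagonal entry in row 0
    obtain ⟨j, hj⟩ : ∃ j, IsUnit (h 0 j) := by
      by_contra hne
      push Not at hne
      have hdet : IsUnit h.det := (Matrix.isUnit_iff_isUnit_det h).mp hu
      have hinv := congrFun (congrFun (Matrix.mul_nonsing_inv h hdet) 0) 0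
      rw [Matrix.mul_apply, one_apply_eq] at hinv
      refine (maximalIdeal.isMaximal A).ne_top ((Ideal.eq_top_iff_one _).mpr (hinv ▸ ?_))
      exact Submodule.sum_mem _ fun k _ => Ideal.mul_mem_right _ _ (hne k)
    have hj0 : j ≠ 0 := fun e => hdiag h 0 hs (e ▸ hj)
    let σ : Equiv.Perm (Fin (m + 2)) := Equiv.swap 1 j
    obtain ⟨c, hc⟩ := hj.exists_right_inv
    let d : Fin (m + 2) → A := fun i => if i = 1 then c else 1
    let π : Matrix (Fin (m + 2)) (Fin (m + 2)) A := (1 : Matrix (Fin (m + 2)) (Fin (m + 2)) A).submatrix (Equiv.refl _) σ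
    let v₁ : Matrix (Fin (m + 2)) (Fin (m + 2)) A := π * diagonal d
    have hv₁ : IsUnit v₁ := by
      refine IsUnit.mul ((Matrix.isUnit_submatrix_equiv _ _).mpr isUnit_one) ?_
      rw [Matrix.isUnit_iff_isUnit_det, det_diagonal]
      refine IsUnit.prod_iff.mpr fun i _ => ?_
      simp only [d]; split
      · exact IsUnit.of_mul_eq_one (h 0 j) ((mul_comm _ _).trans hc)
      · exact isUnit_one
    have hctu : ∀ {k : Type} [Fintype k] [DecidableEq k] (v : Matrix k k A), IsUnit v → IsUnit (ct lam v) := by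
      intro k _ _ v hv
      rw [ct, Matrix.isUnit_iff_isUnit_det, det_transpose]
      rw [show (v.map lam).det = (lam : A →+* A) v.det from ((lam : A →+* A).map_det v).symm]
      exact ((Matrix.isUnit_iff_isUnit_det v).mp hv).map _
    let h₁ := (ct lam v₁ * h * v₁).submatrix e e
    have hs₁ : -ct lam h₁ = h₁ := by
      conv_rhs => rw [show h₁ = ((ct lam v₁ * h * v₁)).submatrix e e from rfl, ← skew_conj lam hlam hs v₁]
      rfl
    have h01 : h₁ (Sum.inl 0) (Sum.inl 1) = 1 := by
      have e0 : e (Sum.inl 0) = 0 := Fin.ext (by simp [he0])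
      have e1 : e (Sum.inl 1) = 1 := Fin.ext (by simp [he0])
      simp only [h₁, submatrix_apply, e0, e1, v₁, ct_mul]
      rw [show ct lam (diagonal d) = diagonal (fun i => lam (d i)) from by
        ext a b
        rcases eq_or_ne a b with rfl | hab
        · simp [ct_apply]
        · simp [ct_apply, diagonal_apply_ne _ hab, diagonal_apply_ne _ hab.symm]]
      simp only [Matrix.mul_assoc, Matrix.diagonal_mul]
      simp only [← Matrix.mul_assoc, Matrix.mul_diagonal]
      have hperm : (ct lam π * h * π) 0 1 = h (σ 0) (σ 1) := by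
        simp [π, ct_apply, Matrix.mul_apply, Matrix.one_apply, apply_ite lam]
      rw [hperm]
      have : σ 0 = 0 := by
        simp only [σ]
        exact Equiv.swap_apply_of_ne_of_ne Fin.zero_ne_one (Ne.symm hj0)
      simp [this, σ, d, Fin.zero_ne_one, hc]
    have hu₁ : IsUnit h₁ := (Matrix.isUnit_submatrix_equiv e e).mpr (((hctu v₁ hv₁).mul hu).mul hv₁)
    obtain ⟨P, C, R, D, hblk⟩ : ∃ P C R D, h₁ = fromBlocks P C R D :=
      ⟨_, _, _, _, (fromBlocks_toBlocks h₁).symm⟩
    have hs₂ := hs₁
    rw [hblk, ct_fromBlocks, Matrix.fromBlocks_neg, fromBlocks_inj] at hs₂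
    obtain ⟨hP, -, -, -⟩ := hs₂
    have hP01 : P 0 1 = 1 := by rw [hblk] at h01; exact h01
    have hP10 : P 1 0 = -1 := by
      have := congrFun (congrFun hP 1) 0
      rw [Matrix.neg_apply, ct_apply, hP01, map_one] at this
      exact this.symm
    have hPd : IsUnit P.det := by
      rw [det_fin_two, hP01, hP10]
      by_contra hcon
      refine (maximalIdeal.isMaximal A).ne_top ((Ideal.eq_top_iff_one _).mpr ?_)
      have := (maximalIdeal A).sub_mem (show P 0 0 * P 1 1 - 1 * -1 ∈ maximalIdeal A from hcon)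
        (Ideal.mul_mem_right (P 1 1) _ (hdiag P 0 hP))
      simpa using this
    let V : Matrix (Fin 2 ⊕ Fin m) (Fin 2 ⊕ Fin m) A := fromBlocks 1 (-(P⁻¹ * C)) 0 1
    have hV : IsUnit V := by
      rw [Matrix.isUnit_iff_isUnit_det, det_fromBlocks_zero₂₁, det_one, det_one, one_mul]
      exact isUnit_one
    have hprod : ∃ R' S, ct lam V * h₁ * V = fromBlocks P 0 R' S := by
      have c1 : ct lam (1 : Matrix (Fin 2) (Fin 2) A) = 1 := by
        simp [ct, Matrix.map_one]
      have c0 : ct lam (0 : Matrix (Fin m) (Fin 2) A) = 0 := by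
        simp [ct, Matrix.map_zero]
      refine ⟨(ct lam V * h₁ * V).toBlocks₂₁, (ct lam V * h₁ * V).toBlocks₂₂, ?_⟩
      conv_lhs => rw [← fromBlocks_toBlocks (ct lam V * h₁ * V)]
      rw [fromBlocks_inj]
      refine ⟨?_, ?_, rfl, rfl⟩ <;>
      · rw [Matrix.mul_assoc, hblk]
        simp only [V, ct_fromBlocks, fromBlocks_multiply, c1, c0, toBlocks_fromBlocks₁₁, toBlocks_fromBlocks₁₂]
        simp only [Matrix.mul_one, Matrix.mul_zero, add_zero, Matrix.one_mul, Matrix.zero_mul,
          Matrix.mul_neg, Matrix.mul_nonsing_inv_cancel_left _ _ hPd, neg_add_cancel]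
    obtain ⟨R', S, hprod⟩ := hprod
    have hs₃ := skew_conj lam hlam hs₁ V
    rw [hprod, ct_fromBlocks, Matrix.fromBlocks_neg, fromBlocks_inj] at hs₃
    obtain ⟨-, -, hR', hS⟩ := hs₃
    have hR0 : R' = 0 := by
      rw [← hR']; ext a b; simp [ct_apply]
    subst hR0
    have hSu : IsUnit S := by
      have := (Matrix.isUnit_iff_isUnit_det _).mp (((hctu V hV).mul hu₁).mul hV)
      rw [hprod, det_fromBlocks_zero₂₁] at this
      exact (Matrix.isUnit_iff_isUnit_det S).mpr (IsUnit.mul_iff.mp this).2
    obtain ⟨hev, w, hw, hgood⟩ := ih m (by omega) S hSu hS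
    let W : Matrix (Fin 2 ⊕ Fin m) (Fin 2 ⊕ Fin m) A := fromBlocks 1 0 0 w
    have hW : IsUnit W := by
      rw [Matrix.isUnit_iff_isUnit_det, det_fromBlocks_zero₂₁, det_one, one_mul]
      exact (Matrix.isUnit_iff_isUnit_det w).mp hw
    have hfin : ct lam (V * W) * h₁ * (V * W) = fromBlocks P 0 0 (ct lam w * S * w) := by
      rw [ct_mul, show ct lam W * ct lam V * h₁ * (V * W) = ct lam W * (ct lam V * h₁ * V) * W by
        simp [Matrix.mul_assoc], hprod]
      simp only [W, ct_fromBlocks, fromBlocks_multiply]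
      simp [ct, Matrix.map_one, Matrix.map_zero, Matrix.mul_assoc]
    refine ⟨hev.add even_two, v₁ * (V * W).submatrix e.symm e.symm,
      hv₁.mul ((Matrix.isUnit_submatrix_equiv _ _).mpr (hV.mul hW)), ?_⟩
    have hfinal : ct lam (v₁ * (V * W).submatrix e.symm e.symm) * h *
        (v₁ * (V * W).submatrix e.symm e.symm) =
        (fromBlocks P 0 0 (ct lam w * S * w)).submatrix e.symm e.symm := by
      have hh : h₁.submatrix e.symm e.symm = ct lam v₁ * h * v₁ := by
        ext a b; simp [h₁]
      rw [ct_mul, ct_submatrix, ← hfin]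
      rw [show (ct lam (V * W)).submatrix e.symm e.symm * ct lam v₁ * h * (v₁ * (V * W).submatrix e.symm e.symm) =
        (ct lam (V * W)).submatrix e.symm e.symm * (ct lam v₁ * h * v₁) * (V * W).submatrix e.symm e.symm from by
          simp only [Matrix.mul_assoc], ← hh, Matrix.submatrix_mul_equiv, Matrix.submatrix_mul_equiv]
    rw [hfinal]
    intro i k
    obtain ⟨i, rfl⟩ := e.surjective i
    obtain ⟨k, rfl⟩ := e.surjective k
    simp only [submatrix_apply, Equiv.symm_apply_apply]
    rcases i with i | i <;> rcases k with k | k <;>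
      simp only [he0, he1, fromBlocks_apply₁₁, fromBlocks_apply₁₂, fromBlocks_apply₂₁, fromBlocks_apply₂₂]
    · fin_cases i <;> fin_cases k <;> simp [hP01, hP10, hdiag P 0 hP, hdiag P 1 hP] <;>
        first
          | exact hdiag P 0 hP
          | exact hdiag P 1 hP
          | simp [(by decide : ¬ Even 1)]
    · have := i.isLt
      exact ⟨fun _ => rfl, fun e' => absurd e' (by omega), fun e' => absurd e' (by omega),
        fun e' => absurd e' (by omega)⟩
    · have := k.isLt
      exact ⟨fun _ => rfl, fun e' => absurd e' (by omega), fun e' => absurd e' (by omega),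
        fun e' => absurd e' (by omega)⟩
    · have := hgood i k
      simp only [Nat.even_add, even_two, true_iff]
      have q : ∀ a : ℕ, (2 + a) / 2 = 1 + a / 2 := fun a => by omega
      simpa [q, add_right_inj] using this

end Groth.Agent.CAlgMisc.SkewHerm
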