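import Groth.Agent.CAlgMisc.PicQuot
import Mathlib.FieldTheory.IsAlgClosed.Basic
import Mathlib.Analysis.Complex.Polynomial.Basic
import Mathlib.RingTheory.Ideal.GoingUp
import Mathlib.RingTheory.FiniteType

/-! Integrality in the minimal central orders of Weil numbers, and a finiteness statement for reduced
orders. -/

set_option autoImplicit false

universe u

namespace Groth.Agent.CAlgMisc.WeilOrder

theorem isIntegral_div {p e : ℕ} [Fact p.Prime] {K : Type u} [Field K] [CharZero K] (π : K) (hint : IsIntegral ℤ π)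
    (hweil : ∀ z ∈ (minpoly ℤ π).aroots ℂ, ‖z‖ = Real.sqrt ((p : ℝ) ^ e)) :
    IsIntegral ℤ (((p : K) ^ e) / π) := by
  let E : IntermediateField ℚ K := IntermediateField.adjoin ℚ {π}
  have hπQ : IsIntegral ℚ π := hint.tower_top
  let gE : E := ⟨π, IntermediateField.mem_adjoin_simple_self ℚ π⟩
  haveI : FiniteDimensional ℚ E := IntermediateField.adjoin.finiteDimensional hπQ
  let ψ : E →ₐ[ℚ] ℂ := IsAlgClosed.lift
  have hroot : ψ gE ∈ (minpoly ℤ π).aroots ℂ := by
    rw [Polynomial.mem_aroots]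
    refine ⟨minpoly.ne_zero hint, ?_⟩
    show Polynomial.aeval ((ψ.restrictScalars ℤ) gE) _ = 0
    rw [Polynomial.aeval_algHom_apply]
    have h1 : Polynomial.aeval gE (minpoly ℤ π) = 0 := by
      apply E.val.injective
      rw [map_zero]
      show (E.val.restrictScalars ℤ) (Polynomial.aeval gE (minpoly ℤ π)) = 0
      rw [← Polynomial.aeval_algHom_apply]
      exact minpoly.aeval ℤ π
    rw [h1, map_zero]
  have hnorm := hweil _ hroot
  have hz0 : ψ gE ≠ 0 := fun h => by
    rw [h, norm_zero] at hnorm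
    have hp0 : (0 : ℝ) < (p : ℝ) ^ e := pow_pos (Nat.cast_pos.mpr (Fact.out : p.Prime).pos) e
    exact (Real.sqrt_pos.mpr hp0).ne hnorm
  have hval : ψ ((p : E) ^ e / gE) = starRingEnd ℂ (ψ gE) := by
    rw [map_div₀, map_pow, map_natCast, div_eq_iff hz0, Complex.conj_mul', hnorm, ← Complex.ofReal_pow,
      Real.sq_sqrt (by positivity), Complex.ofReal_pow, Complex.ofReal_natCast]
  have hzint : IsIntegral ℤ (starRingEnd ℂ (ψ gE)) := by
    have h : IsIntegral ℤ gE := (isIntegral_algHom_iff (E.val.restrictScalars ℤ) (E.val.injective)).mp hint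
    exact map_isIntegral_int (starRingEnd ℂ) (map_isIntegral_int ψ.toRingHom h)
  rw [← hval] at hzint
  have h2 := (isIntegral_algHom_iff (ψ.restrictScalars ℤ) ψ.injective).mp hzint
  have h3 := map_isIntegral_int E.val.toRingHom h2
  simpa [gE] using h3

theorem isIntegral_pi {J : Type*} [Fintype J] {K : J → Type u} [∀ j, CommRing (K j)] (f : (j : J) → K j)
    (hf : ∀ j, IsIntegral ℤ (f j)) : IsIntegral ℤ f := by
  classical
  choose P hP hP0 using hf
  refine ⟨∏ j, P j, Polynomial.monic_prod_of_monic _ _ fun j _ => hP j, funext fun j => ?_⟩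
  have h := Polynomial.hom_eval₂ (∏ j, P j) (algebraMap ℤ ((j : J) → K j)) (Pi.evalRingHom K j) f
  rw [Pi.evalRingHom_apply, Pi.evalRingHom_apply] at h
  rw [Pi.zero_apply]
  refine h.trans ?_
  rw [Polynomial.eval₂_finsetProd, Finset.prod_eq_zero (Finset.mem_univ j)]
  rw [show (Pi.evalRingHom K j).comp (algebraMap ℤ ((j : J) → K j)) = algebraMap ℤ (K j) from RingHom.ext_int _ _]
  exact hP0 j

theorem finite_inter {R : Type u} [CommRing R] [IsNoetherianRing R] [IsReduced R] [Algebra.IsIntegral ℤ R]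
    (I : Ideal R) : {p : PrimeSpectrum R | I ≤ p.asIdeal ∧ Module.annihilator R I ≤ p.asIdeal}.Finite := by
  classical
  have hnmin : ∀ P : PrimeSpectrum R, I ≤ P.asIdeal → Module.annihilator R I ≤ P.asIdeal → P.asIdeal ∉ minimalPrimes R := by
    intro P hIP hAP hmin
    have hs : ∀ i ∈ I, ∃ s, s ∉ P.asIdeal ∧ s * i = 0 := by
      intro i hi
      obtain ⟨s, hs, hsn⟩ : ∃ s, s ∉ P.asIdeal ∧ IsNilpotent (s * i) := by
        by_contra hne
        push Not at hne
        let Rp := Localization.AtPrime P.asIdeal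
        haveI := IsLocalization.subsingleton_primeSpectrum_of_mem_minimalPrimes P.asIdeal hmin Rp
        have hnil : IsNilpotent (algebraMap R Rp i) := by
          rw [nilpotent_iff_mem_prime]
          intro Q hQ
          have h' : Q = IsLocalRing.maximalIdeal Rp :=
            congrArg PrimeSpectrum.asIdeal (Subsingleton.elim (⟨Q, hQ⟩ : PrimeSpectrum Rp) ⟨IsLocalRing.maximalIdeal Rp, inferInstance⟩)
          rw [h']
          exact (IsLocalization.AtPrime.to_map_mem_maximal_iff Rp P.asIdeal i).mpr (hIP hi)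
        obtain ⟨n, hn⟩ := hnil
        rw [← map_pow, IsLocalization.map_eq_zero_iff P.asIdeal.primeCompl] at hn
        obtain ⟨⟨s, hs⟩, hsi⟩ := hn
        refine hne s hs ⟨n + 1, ?_⟩
        calc (s * i) ^ (n + 1) = s ^ n * i * (s * i ^ n) := by ring
          _ = 0 := by rw [hsi, mul_zero]
      exact ⟨s, hs, hsn.eq_zero⟩
    choose s hsP hs0 using hs
    obtain ⟨G, hG⟩ := (IsNoetherian.noetherian I : I.FG)
    have hGI : ∀ g ∈ G, g ∈ I := fun g hg => hG ▸ Submodule.subset_span hg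
    refine P.isPrime.prod_mem_iff.not.mpr (by simp only [not_exists, not_and]; exact fun g _ => hsP g.1 (hGI g.1 g.2))
      (hAP (show ∏ g ∈ G.attach, s g.1 (hGI g.1 g.2) ∈ Module.annihilator R I from ?_))
    rw [Module.mem_annihilator]
    rintro ⟨i, hi⟩
    refine Subtype.ext ?_
    show (∏ g ∈ G.attach, s g.1 (hGI g.1 g.2)) * i = 0
    rw [← hG] at hi
    induction hi using Submodule.span_induction with
    | mem g hg =>
      rw [← Finset.mul_prod_erase _ _ (Finset.mem_attach G ⟨g, hg⟩), mul_right_comm, hs0, zero_mul]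
    | zero => rw [mul_zero]
    | add a b _ _ ha hb => rw [mul_add, ha, hb, add_zero]
    | smul c a _ ha => rw [smul_eq_mul, mul_left_comm, ha, mul_zero]
  have hmax : ∀ P : PrimeSpectrum R, P.asIdeal ∉ minimalPrimes R → P.asIdeal.IsMaximal := by
    intro P hP
    obtain ⟨P₀, hP₀, hle₀⟩ := Ideal.exists_minimalPrimes_le (I := ⊥) (J := P.asIdeal) bot_le
    haveI := hP₀.1.1
    have hlt : P₀ < P.asIdeal := lt_of_le_of_ne hle₀ fun h => hP (h ▸ hP₀)
    have h1 := Ideal.IsIntegral.comap_lt_comap (R := ℤ) hlt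
    have h2 : (P.asIdeal.comap (algebraMap ℤ R)).IsMaximal :=
      IsPrime.to_maximal_ideal (fun h0 => not_lt_bot (h0 ▸ h1))
    exact Ideal.isMaximal_of_isIntegral_of_isMaximal_comap P.asIdeal h2
  refine Set.Finite.subset (((I ⊔ Module.annihilator R I).finite_minimalPrimes_of_isNoetherianRing R).preimage
    (fun a _ b _ h => PrimeSpectrum.ext h)) ?_
  rintro P ⟨hIP, hAP⟩
  refine ⟨⟨P.isPrime, sup_le hIP hAP⟩, fun Q ⟨hQ, hQle⟩ hQP => ?_⟩
  haveI := hQ
  have := hmax ⟨Q, hQ⟩ (hnmin ⟨Q, hQ⟩ (le_sup_left.trans hQle) (le_sup_right.trans hQle))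
  exact (this.eq_of_le P.isPrime.ne_top hQP).ge

end Groth.Agent.CAlgMisc.WeilOrder

namespace Groth.Agent.CAlgMisc.WeilOrder

theorem pic_surjective {Aw Av : Type u} [CommRing Aw] [CommRing Av] [IsReduced Aw] [IsReduced Av]
    (Φw : MvPolynomial (Fin 2) ℤ →ₐ[ℤ] Aw) (Φv : MvPolynomial (Fin 2) ℤ →ₐ[ℤ] Av)
    (hint : ∀ i, IsIntegral ℤ (Φw (MvPolynomial.X i))) (hle : RingHom.ker Φw ≤ RingHom.ker Φv) :
    Function.Surjective (CommRing.Pic.mapRingHom (Ideal.Quotient.factor hle)) := by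
  haveI : IsReduced (MvPolynomial (Fin 2) ℤ ⧸ RingHom.ker Φv) :=
    (Ideal.isRadical_iff_quotient_reduced _).mp fun x ⟨n, hn⟩ =>
      RingHom.mem_ker.mpr (IsNilpotent.eq_zero ⟨n, by rw [← map_pow]; exact RingHom.mem_ker.mp hn⟩)
  haveI : IsReduced (MvPolynomial (Fin 2) ℤ ⧸ RingHom.ker Φw) :=
    (Ideal.isRadical_iff_quotient_reduced _).mp fun x ⟨n, hn⟩ =>
      RingHom.mem_ker.mpr (IsNilpotent.eq_zero ⟨n, by rw [← map_pow]; exact RingHom.mem_ker.mp hn⟩)
  refine PicQuot.surjective_map _ (Ideal.Quotient.factor_surjective hle) ?_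
  haveI : Algebra.IsIntegral ℤ (MvPolynomial (Fin 2) ℤ ⧸ RingHom.ker Φw) := by
    refine ⟨fun z => ?_⟩
    obtain ⟨z, rfl⟩ := Ideal.Quotient.mk_surjective z
    have hz : IsIntegral ℤ (Φw z) := by
      induction z using MvPolynomial.induction_on with
      | C a => rw [show MvPolynomial.C a = algebraMap ℤ (MvPolynomial (Fin 2) ℤ) a from rfl, AlgHom.commutes]; exact isIntegral_algebraMap
      | add a b ha hb => rw [map_add]; exact ha.add hb
      | mul_X a i ha => rw [map_mul]; exact ha.mul (hint i)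
    obtain ⟨P, hP, hP0⟩ := hz
    refine ⟨P, hP, ?_⟩
    have h1 : Φw (Polynomial.aeval z P) = 0 := by rw [← Polynomial.aeval_algHom_apply]; exact hP0
    have h2 : Polynomial.aeval (Ideal.Quotient.mkₐ ℤ (RingHom.ker Φw) z) P = 0 := by
      rw [Polynomial.aeval_algHom_apply]
      exact Ideal.Quotient.eq_zero_iff_mem.mpr (RingHom.mem_ker.mpr h1)
    exact h2
  exact @finite_inter _ _ _ _ (by convert this using 1 <;> first | exact Subsingleton.elim _ _ | rfl) _

end Groth.Agent.CAlgMisc.WeilOrder
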